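import Cfsg.Agent.Fusion.RankTwoCenter.Shape
import Cfsg.Agent.Fusion.GroupSystem
import Cfsg.Agent.S1237
import Cfsg.Prelude.Def_TwoFusion

/-!
The Sylow two-subgroups of groups of two-rank two without isolated involution.
-/

set_option autoImplicit false
set_option linter.style.haveILetI false

universe u

namespace Cfsg.Lib.RankTwoCenter

open Cfsg Cfsg.FusionSystem Cfsg.Lib.Fusion

variable {G : Type u} [Group G] [Finite G]

theorem center_eq_bot_of_not_isolated (S : Sylow 2 G) (hiso : ∀ z : G, ¬ Cfsg.IsIsolatedInvolution z) :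
    (groupFusionSystem (S : Subgroup G)).center = ⊥ := by
  haveI : Fact (Nat.Prime 2) := ⟨Nat.prime_two⟩
  by_contra hne
  set F := groupFusionSystem (S : Subgroup G) with hF
  have hle : F.center ≤ (S : Subgroup G) := isCentral_center.1
  haveI := Subgroup.nontrivial_iff_ne_bot F.center |>.mpr hne
  obtain ⟨w, hw, -⟩ := exists_central_involution
    (S.isPGroup'.of_injective _ (Subgroup.inclusion_injective hle))
  have hz : orderOf (w : G) = 2 := by rwa [Subgroup.orderOf_coe]
  have key : ∀ h : G, h * w * h⁻¹ ∈ (S : Subgroup G) → h * w * h⁻¹ = w := by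
    intro h hh
    have hP : Subgroup.zpowers (w : G) ≤ (S : Subgroup G) := Subgroup.zpowers_le.mpr (hle w.2)
    have hmem : conjHom (Subgroup.zpowers (w : G)) h ∈ F.Hom (Subgroup.zpowers (w : G)) := by
      refine ⟨hP, ?_, h, fun x => rfl⟩
      rintro ⟨x, i, rfl⟩
      show h * (w : G) ^ i * h⁻¹ ∈ (S : Subgroup G)
      rw [← conj_zpow]
      exact zpow_mem hh i
    exact apply_of_mem_center w.2 (f := fun x => h * x * h⁻¹) ⟨_, hmem, fun x => rfl⟩
      (Subgroup.mem_zpowers _)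
  refine hiso w ⟨hz, fun g hg => ?_⟩
  set z' := g * w * g⁻¹ with hz'
  have hw2 : (w : G) * w = 1 := (orderOf_two.mp hz).1
  have hz'2 : z' * z' = 1 := by rw [hz']; calc g * w * g⁻¹ * (g * w * g⁻¹) = g * ((w : G) * w) * g⁻¹ := by group
                                    _ = 1 := by rw [hw2]; group
  let T : Subgroup G := Subgroup.closure {(w : G), z'}
  haveI : IsMulCommutative T := Subgroup.isMulCommutative_closure (by
    intro a ha b hb
    rcases ha with rfl | rfl <;> rcases hb with rfl | rfl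
    exacts [rfl, hg.eq, hg.eq.symm, rfl])
  have hT : IsPGroup 2 T := fun x => ⟨1, Subtype.ext (by
    obtain ⟨x, hx⟩ := x
    rw [pow_one]
    show x ^ 2 = 1
    induction hx using Subgroup.closure_induction with
    | mem y hy => rcases hy with rfl | rfl <;> rw [pow_two] <;> assumption
    | one => exact one_pow 2
    | mul a b ha hb e1 e2 =>
      have hcm : (⟨a, ha⟩ : T) * ⟨b, hb⟩ = ⟨b, hb⟩ * ⟨a, ha⟩ := mul_comm' _ _
      rw [Commute.mul_pow (congrArg Subtype.val hcm), e1, e2, one_mul]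
    | inv a ha e => rw [inv_pow, e, inv_one])⟩
  obtain ⟨h, hh⟩ := exists_conj_le_sylow S hT
  have h1 := key h (hh _ (Subgroup.subset_closure (by simp)))
  have h2 := key (h * g) (by
    have := hh z' (Subgroup.subset_closure (by simp))
    rwa [show h * g * (w : G) * (h * g)⁻¹ = h * z' * h⁻¹ by rw [hz']; group])
  rw [show h * g * (w : G) * (h * g)⁻¹ = h * z' * h⁻¹ by rw [hz']; group] at h2
  exact mul_left_cancel (mul_right_cancel (h2.trans h1.symm))

theorem sylow_list (h2 : Cfsg.PRankLE 2 2 G) (h1 : ¬ Cfsg.PRankLE 2 1 G)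
    (hiso : ∀ z : G, ¬ Cfsg.IsIsolatedInvolution z) (S : Sylow 2 G) {F : Type*} [Field F] [Fintype F]
    (hF : Fintype.card F = 16) (P : Sylow 2 (Cfsg.PSU 3 F 4)) :
    (∃ m : ℕ, 2 ≤ m ∧ Nonempty ((S : Subgroup G) ≃* DihedralGroup m)) ∨
      Cfsg.IsQuasiDihedral (S : Subgroup G) ∨ Cfsg.IsWreathed (S : Subgroup G) ∨
      (∃ n : ℕ, 2 ≤ n ∧ Nonempty ((S : Subgroup G) ≃* Multiplicative (ZMod (2 ^ n) × ZMod (2 ^ n)))) ∨
      Nonempty ((S : Subgroup G) ≃* (P : Subgroup (Cfsg.PSU 3 F 4))) := by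
  haveI : Fact (Nat.Prime 2) := ⟨Nat.prime_two⟩
  have hr : ¬ Cfsg.PRankAtLeast 2 3 (S : Subgroup G) := by
    rintro ⟨A, hA, he, hc⟩
    haveI := hA
    have := h2 (A.map (S : Subgroup G).subtype) inferInstance (by
      rintro _ ⟨a, ha, rfl⟩
      rw [← map_pow, he a ha, map_one])
    rw [Subgroup.card_map_of_injective (S : Subgroup G).subtype_injective] at this
    omega
  have hr2 : Cfsg.PRankAtLeast 2 2 (S : Subgroup G) := by
    obtain ⟨A, hA, he, hc⟩ : ∃ A : Subgroup G, IsMulCommutative A ∧ (∀ a ∈ A, a ^ 2 = 1) ∧ 2 < Nat.card A := by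
      by_contra h
      exact h1 fun A hA he => not_lt.mp fun hlt => h ⟨A, hA, he, by simpa using hlt⟩
    haveI := hA
    have hAp : IsPGroup 2 A := fun a => ⟨1, Subtype.ext (by rw [pow_one]; exact he a a.2)⟩
    obtain ⟨g, hg⟩ := exists_conj_le_sylow S hAp
    have hle : A.map (MulAut.conj g).toMonoidHom ≤ (S : Subgroup G) := by
      rintro _ ⟨a, ha, rfl⟩; exact hg a ha
    refine ⟨(A.map (MulAut.conj g).toMonoidHom).subgroupOf S, inferInstance, ?_, ?_⟩
    · rintro ⟨_, hx⟩ ⟨a, ha, rfl⟩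
      apply Subtype.ext
      show (MulAut.conj g a) ^ 2 = 1
      rw [← map_pow, he a ha, map_one]
    · rw [Nat.card_congr (Subgroup.subgroupOfEquivOfLe hle).toEquiv,
        Subgroup.card_map_of_injective (MulAut.conj g).injective]
      obtain ⟨e, hec⟩ := hAp.exists_card_eq
      rw [hec] at hc ⊢
      exact Nat.pow_le_pow_right (by norm_num) ((Nat.pow_lt_pow_iff_right (a := 2) (n := 1) (by norm_num)).mp
        (by simpa using hc))
  rcases shape S.isPGroup' (saturated_group S) hr2 hr (center_eq_bot_of_not_isolated S hiso) with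
    ⟨m, hm, h⟩ | h | h | ⟨hle2, hle1, φ, ht⟩
  · exact Or.inl ⟨m, by omega, h⟩
  · exact Or.inr (Or.inl h)
  · exact Or.inr (Or.inr (Or.inl h))
  rcases Cfsg.Agent.S1237.result S.isPGroup' hle2 hle1 φ ht hF P with ⟨n, hn, ⟨e⟩⟩ | h
  swap
  · exact Or.inr (Or.inr (Or.inr (Or.inr h)))
  rcases Nat.eq_or_lt_of_le hn with rfl | hn
  swap
  · exact Or.inr (Or.inr (Or.inr (Or.inl ⟨n, hn, ⟨e⟩⟩)))
  haveI : IsKleinFour (S : Subgroup G) := by
    refine ⟨?_, ?_⟩
    · rw [Nat.card_congr e.toEquiv, Nat.card_congr Multiplicative.toAdd, Nat.card_prod, Nat.card_zmod]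
      norm_num
    · rw [Monoid.exponent_eq_of_mulEquiv e]
      exact IsKleinFour.exponent_two (G := Multiplicative (ZMod 2 × ZMod 2))
  exact Or.inl ⟨2, le_rfl, IsKleinFour.nonempty_mulEquiv⟩

end Cfsg.Lib.RankTwoCenter
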