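import Cfsg.Agent.Fusion.CenterControl
import Cfsg.Agent.Fusion.Alperin

/-!
Central involutions in 2-groups with no elementary abelian subgroup of order eight.
-/

set_option autoImplicit false
set_option linter.style.haveILetI false

universe u

namespace Cfsg.Lib.RankTwoCenter

open Cfsg

variable {G : Type u} [Group G] [Finite G]

/-- Three commuting involutions generate at most a four-group. -/
theorem mem_four (h : ¬ Cfsg.PRankAtLeast 2 3 G) {a b c : G} (ha : a * a = 1) (hb : b * b = 1)
    (hc : c * c = 1) (hab : a * b = b * a) (hac : a * c = c * a) (hbc : b * c = c * b) (ha1 : a ≠ 1)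
    (hb1 : b ≠ 1) (hne : a ≠ b) : c = 1 ∨ c = a ∨ c = b ∨ c = a * b := by
  by_contra hc'
  push Not at hc'
  obtain ⟨h1, h2, h3, h4⟩ := hc'
  haveI : IsMulCommutative (Subgroup.closure ({a, b, c} : Set G)) := by
    refine Subgroup.isMulCommutative_closure ?_
    intro x hx y hy
    rcases hx with rfl | rfl | rfl <;> rcases hy with rfl | rfl | rfl <;>
      first | rfl | assumption | exact (by assumption : _ = _).symm
  set A := Subgroup.closure ({a, b, c} : Set G)
  have he : ∀ x ∈ A, x ^ 2 = 1 := by
    intro x hx
    induction hx using Subgroup.closure_induction with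
    | mem y hy => rcases hy with rfl | rfl | rfl <;> rw [pow_two] <;> assumption
    | one => exact one_pow 2
    | mul y z hy hz e1 e2 =>
      have hcm : (⟨y, hy⟩ : A) * ⟨z, hz⟩ = ⟨z, hz⟩ * ⟨y, hy⟩ := mul_comm' _ _
      rw [Commute.mul_pow (congrArg Subtype.val hcm), e1, e2, one_mul]
    | inv y hy e => rw [inv_pow, e, inv_one]
  refine h ⟨A, inferInstance, he, ?_⟩
  classical
  have hab1 : a * b ≠ 1 := fun e => hne (by
    have := congrArg (· * b) e
    simpa [mul_assoc, hb] using this)
  have haab : a ≠ a * b := fun e => hb1 (mul_eq_left.mp e.symm)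
  have hbab : b ≠ a * b := fun e => ha1 (mul_eq_right.mp e.symm)
  let s : Finset G := {1, a, b, a * b}
  have hs4 : s.card = 4 := by
    have h5 : b ∉ ({a * b} : Finset G) := by simpa using hbab
    have h6 : a ∉ ({b, a * b} : Finset G) := by simp [hne, haab]
    have h7 : (1 : G) ∉ ({a, b, a * b} : Finset G) := by simp [ha1.symm, hb1.symm, hab1.symm]
    simp only [s]
    rw [Finset.card_insert_of_notMem h7, Finset.card_insert_of_notMem h6,
      Finset.card_insert_of_notMem h5, Finset.card_singleton]
  have hba : b * a = a * b := hab.symm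
  have haa : ∀ x, a * (a * x) = x := fun x => by rw [← mul_assoc, ha, one_mul]
  have hbb : ∀ x, b * (b * x) = x := fun x => by rw [← mul_assoc, hb, one_mul]
  have hba' : ∀ x, b * (a * x) = a * (b * x) := fun x => by rw [← mul_assoc, hba, mul_assoc]
  have hmul : ∀ x ∈ s, ∀ y ∈ s, y * x ∈ s := by
    intro x hx y hy
    simp only [s, Finset.mem_insert, Finset.mem_singleton] at hx hy ⊢
    rcases hx with rfl | rfl | rfl | rfl <;> rcases hy with rfl | rfl | rfl | rfl <;>
      simp [mul_assoc, ha, hb, hba, haa, hbb, hba']
  have hinv : ∀ x ∈ s, x * x = 1 := by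
    intro x hx
    simp only [s, Finset.mem_insert, Finset.mem_singleton] at hx
    rcases hx with rfl | rfl | rfl | rfl <;> simp [mul_assoc, ha, hb, haa, hbb, hba']
  have hcs : c ∉ s := by simp [s, h1, h2, h3, h4]
  let t : Finset G := s ∪ s.image (c * ·)
  have ht : t.card = 8 := by
    rw [Finset.card_union_of_disjoint, Finset.card_image_of_injective _ (mul_right_injective c), hs4]
    rw [Finset.disjoint_left]
    intro y hy hy'
    obtain ⟨x, hx, rfl⟩ := Finset.mem_image.mp hy'
    refine hcs ?_
    have := hmul x hx _ hy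
    rwa [mul_assoc, hinv x hx, mul_one] at this
  have hsub : ∀ x ∈ t, x ∈ A := by
    have haA : a ∈ A := Subgroup.subset_closure (by simp)
    have hbA : b ∈ A := Subgroup.subset_closure (by simp)
    have hcA : c ∈ A := Subgroup.subset_closure (by simp)
    have hsA : ∀ x ∈ s, x ∈ A := by
      intro x hx
      simp only [s, Finset.mem_insert, Finset.mem_singleton] at hx
      rcases hx with rfl | rfl | rfl | rfl
      exacts [one_mem _, haA, hbA, mul_mem haA hbA]
    intro x hx
    rcases Finset.mem_union.mp hx with hx | hx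
    · exact hsA x hx
    · obtain ⟨y, hy, rfl⟩ := Finset.mem_image.mp hx
      exact mul_mem hcA (hsA y hy)
  have hle : Nat.card t ≤ Nat.card A := Nat.card_le_card_of_injective (fun x => ⟨x.1, hsub x.1 x.2⟩)
    fun x y e => Subtype.ext (congrArg (fun z : A => (z : G)) e)
  rw [Nat.card_eq_finsetCard, ht] at hle
  simpa using hle

end Cfsg.Lib.RankTwoCenter
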