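import Cfsg.Agent.Fusion.RankTwoCenter.Stable
import Cfsg.Agent.Fusion.RankTwoReal.WreathedShape

/-!
Simple systems of two-rank two are those of `PSL₂(q)` and `PSL₃(q)`.
-/

set_option autoImplicit false
set_option linter.style.haveILetI false

universe u v

namespace Cfsg.Lib.RankTwoCenter

open Cfsg Cfsg.FusionSystem Cfsg.Lib.Fusion Cfsg.Lib.RankTwoReal Cfsg.Lib.CyclicMax
open scoped MatrixGroups

variable {Ω : Type u} [Group Ω] {S : Subgroup Ω} {F : FusionSystem S}

section MaxClass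

variable {D : Type v} [Group D] [Finite D] {a b : D} {m : ℕ} {r s : ℤ}

/-- The subgroup of index two containing the outer elements of one parity. -/
def parityGroup (h : MC a b m r s) (c : ℤ) : Subgroup D where
  carrier := {x | ∃ i : ℤ, (x = a ^ i ∧ Even i) ∨ (x = a ^ i * b ∧ Even (i + c))}
  one_mem' := ⟨0, Or.inl ⟨(zpow_zero a).symm, ⟨0, rfl⟩⟩⟩
  mul_mem' := by
    obtain ⟨u, hu⟩ := h.four_dvd
    obtain ⟨v, hv⟩ := (dvd_pow_self (2 : ℤ) (show m - 1 ≠ 0 by have := h.two_le; omega)).trans h.sdvd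
    rintro x y ⟨i, ⟨rfl, hi⟩ | ⟨rfl, hi⟩⟩ ⟨j, ⟨rfl, hj⟩ | ⟨rfl, hj⟩⟩
    · exact ⟨i + j, Or.inl ⟨(zpow_add a i j).symm, hi.add hj⟩⟩
    · exact ⟨i + j, Or.inr ⟨by rw [zpow_add, mul_assoc], by rw [add_assoc]; exact hi.add hj⟩⟩
    · refine ⟨i + r * j, Or.inr ⟨mul_b_zpow h.gen i j, ?_⟩⟩
      rw [show i + r * j + c = i + c + r * j by ring]
      exact hi.add (hj.mul_left r)
    · refine ⟨i + r * j + s, Or.inl ⟨mul_b_mul_b h.gen i j, ?_⟩⟩
      obtain ⟨p, hp⟩ := hi
      obtain ⟨q, hq⟩ := hj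
      exact ⟨p - q - c + q * (r + 1) + v - u * c * 2 + c, by
        rw [show i = p + p - c by linarith, show j = q + q - c by linarith,
          show r = 4 * u - 1 by linarith, hv]; ring⟩
  inv_mem' := by
    obtain ⟨v, hv⟩ := (dvd_pow_self (2 : ℤ) (show m - 1 ≠ 0 by have := h.two_le; omega)).trans h.sdvd
    obtain ⟨u, hu⟩ := h.four_dvd
    rintro x ⟨i, ⟨rfl, hi⟩ | ⟨rfl, hi⟩⟩
    · exact ⟨-i, Or.inl ⟨(zpow_neg a i).symm, hi.neg⟩⟩
    · refine ⟨i * (r + 1) + s + i, Or.inr ⟨inv_eq_of_mul_eq_one_right ?_, ?_⟩⟩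
      · rw [zpow_add, ← h.sq i, ← h.pow_four i]
        group
      · rw [show i * (r + 1) + s + i + c = i + c + (i * (r + 1) + s) by ring]
        exact hi.add ⟨2 * u * i + v, by rw [show r = 4 * u - 1 by linarith, hv]; ring⟩

theorem mem_parityGroup (h : MC a b m r s) (c i : ℤ) :
    (a ^ i ∈ parityGroup h c ↔ Even i) ∧ (a ^ i * b ∈ parityGroup h c ↔ Even (i + c)) := by
  have h2 : Even ((2 : ℤ) ^ m) := (Int.even_pow.mpr ⟨by norm_num, by have := h.two_le; omega⟩)
  have hev : ∀ i j : ℤ, a ^ i = a ^ j → (Even i ↔ Even j) := fun i j hij => by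
    have hd := (zpow_eq_iff h.gen i j).mp hij
    obtain ⟨d, hd⟩ := hd
    have : Even (i - j) ∨ Even (j - i) := by
      first
        | exact Or.inl (hd ▸ h2.mul_right d)
        | exact Or.inr (hd ▸ h2.mul_right d)
    rcases this with h' | h'
    · exact Int.even_sub.mp h'
    · exact (Int.even_sub.mp h').symm
  refine ⟨⟨?_, fun hi => ⟨i, Or.inl ⟨rfl, hi⟩⟩⟩, ⟨?_, fun hi => ⟨i, Or.inr ⟨rfl, hi⟩⟩⟩⟩
  · rintro ⟨j, ⟨hj, hje⟩ | ⟨hj, hje⟩⟩
    · exact (hev i j hj).mpr hje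
    · exact absurd (hj ▸ zpow_mem (Subgroup.mem_zpowers a) i) (notMem_mul h.gen j)
  · rintro ⟨j, ⟨hj, hje⟩ | ⟨hj, hje⟩⟩
    · exact absurd (hj ▸ zpow_mem (Subgroup.mem_zpowers a) j) (notMem_mul h.gen i)
    · have := hev i j (mul_right_cancel hj)
      exact Int.even_add.mpr (this.trans (Int.even_add.mp hje))

theorem index_parityGroup (h : MC a b m r s) (c : ℤ) : (parityGroup h c).index = 2 := by
  refine Subgroup.index_eq_two_iff.mpr ⟨a, fun x => ?_⟩
  obtain ⟨u, hu⟩ := h.four_dvd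
  rcases cases h.gen x with ⟨i, rfl⟩ | ⟨i, rfl⟩
  · rw [show a ^ i * a = a ^ (i + 1) by rw [zpow_add, zpow_one],
      (mem_parityGroup h c _).1, (mem_parityGroup h c _).1, Int.even_add_one]
    exact xor_not_left.mpr Iff.rfl
  · rw [show a ^ i * b * a = a ^ (i + r) * b by
      conv_lhs => rw [← zpow_one a, ← zpow_mul]
      rw [one_mul, mul_b_zpow h.gen, mul_one]]
    rw [(mem_parityGroup h c _).2, (mem_parityGroup h c _).2,
      show i + r + c = i + c + 1 + (r - 1) by ring, Int.even_add, Int.even_add_one]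
    have hr : Even (r - 1) := ⟨2 * u - 1, by linarith⟩
    simp only [hr, iff_true]
    exact xor_not_left.mpr Iff.rfl

theorem cand_le_parityGroup (h : MC a b m r s) {X : Subgroup D} (hX : Cand X) {c i : ℤ}
    (hi : a ^ i * b ∈ X) (hc : Even (i + c)) : X ≤ parityGroup h c := by
  intro y hy
  by_cases hya : y ∈ Subgroup.zpowers a
  · obtain ⟨j, rfl⟩ := hya
    have h1 : a ^ (j + i) * b ∈ X := by
      rw [zpow_add, mul_assoc]; exact X.mul_mem hy hi
    have h2 := hX.parity h hi h1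
    rw [add_sub_cancel_right] at h2
    exact (mem_parityGroup h c j).1.mpr h2
  · obtain ⟨j, rfl⟩ := h.outer hya
    refine (mem_parityGroup h c j).2.mpr ?_
    have h2 := (hX.parity h hi hy).add hc
    rwa [show j - i + (i + c) = j + c by ring] at h2

omit [Finite D] in
theorem subgroup_up_index (e : D ≃* S) (T : Subgroup D) : (T.map e.toMonoidHom).index = T.index :=
  Subgroup.index_map_equiv T e

theorem exists_cand_not_le [Finite S] (hS : IsPGroup 2 S) (hsim : F.IsSimple 2)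
    (hreal : F.IsRealizable 2) (hZ : F.center = ⊥) (e : D ≃* S) (T : Subgroup D) (hT : T.index = 2) :
    ∃ X : Subgroup D, Cand X ∧ ¬ IsPGroup 2 (F.autGroup (up e X)) ∧ ¬ X ≤ T := by
  obtain ⟨Q, hQ, hC, hA, x, hxQ, hxT⟩ := exists_site_not_le hS hsim hreal hZ (T.map e.toMonoidHom)
    ((subgroup_up_index e T).trans hT)
  obtain ⟨X, rfl⟩ := exists_up e hQ
  refine ⟨X, ⟨centralizer_le_of_up e hC, fun hp => hA (((isPGroup_mulAut_up e X).mpr hp).to_subgroup _)⟩,
    hA, fun hle => hxT ?_⟩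
  obtain ⟨y, rfl⟩ := e.surjective x
  exact ⟨y, hle ((coe_mem_up e).mp hxQ), rfl⟩

/-- In a simple system every candidate has odd automorphisms. -/
theorem all_moved [Finite S] (hS : IsPGroup 2 S) (hsim : F.IsSimple 2)
    (hreal : F.IsRealizable 2) (hZ : F.center = ⊥) (e : D ≃* S) (h : MC a b m r s)
    {X : Subgroup D} (hX : Cand X) : ¬ IsPGroup 2 (F.autGroup (up e X)) := by
  obtain ⟨x, hx, hxa⟩ := hX.exists_outer h
  obtain ⟨i, rfl⟩ := h.outer hxa
  obtain ⟨Y, hY, hA, hYT⟩ := exists_cand_not_le hS hsim hreal hZ e (parityGroup h (i + 1))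
    (index_parityGroup h _)
  obtain ⟨y, hy, hya⟩ := hY.exists_outer h
  obtain ⟨j, rfl⟩ := h.outer hya
  have hodd : ¬ Even (j + (i + 1)) := fun hev => hYT (cand_le_parityGroup h hY hy hev)
  obtain ⟨g, hg⟩ := hY.conj h hX (by
    rw [hY.even_iff h hy, hX.even_iff h hx]
    rw [← add_assoc, Int.even_add_one, not_not, Int.even_add] at hodd
    exact hodd)
  rw [← hg]
  exact fun hp => hA ((isConj_up e F Y g).2.mpr hp)

/-- Realization by the model with both classes. -/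
theorem realized_max [Finite S] (hS : IsPGroup 2 S) (hsim : F.IsSimple 2)
    (hreal : F.IsRealizable 2) (hZ : F.center = ⊥) (e : D ≃* S) (h : MC a b m r s)
    {G : Type} [Group G] [Finite G] (U : Sylow 2 G) {a' b' : (U : Subgroup G)}
    (hT : TwoGen a' b' m r s)
    (hU : ∀ Y : Subgroup (U : Subgroup G), Cand Y → Moved (Y.map (U : Subgroup G).subtype)) :
    ∃ ι : S →* G, F.IsRealizedBy ι ∧ (U : Subgroup G) = ι.range := by
  haveI : Fact (Nat.Prime 2) := ⟨Nat.prime_two⟩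
  obtain ⟨φ, rfl, rfl⟩ := exists_equiv h.gen hT
  have hagree := agree_max hS e h (pe := True) (po := True)
    (fun X hX => iff_of_true (all_moved hS hsim hreal hZ e h hX) (by simp)) U φ
    (fun Y hY => iff_of_true (hU Y hY) (by simp))
  have hr : (U : Subgroup G) = ((U : Subgroup G).subtype.comp (e.symm.trans φ).toMonoidHom).range := by
    rw [MonoidHom.range_comp, MonoidHom.range_eq_top.mpr (e.symm.trans φ).surjective,
      ← MonoidHom.range_eq_map, Subgroup.range_subtype]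
  refine ⟨_, ?_, hr⟩
  rw [eq_of_autGroup_eq hS hsim.1 (saturated_pullSystem _ _ U hr) hagree]
  exact realizedBy_pullSystem _ _

end MaxClass

section Wreathed

open Cfsg.Lib.Wreathed Cfsg.Lib.WreathedFusion Cfsg.Lib.WreathedCentric Cfsg.Lib.SylowTwo

variable {n : ℕ}

/-- The parity of a coordinate. -/
def par (hn : 1 ≤ n) : ZMod (2 ^ n) →+* ZMod 2 :=
  ZMod.castHom (dvd_pow_self 2 (by omega : n ≠ 0)) (ZMod 2)

/-- The parity of the sum of the coordinates. -/
def sumEven (hn : 1 ≤ n) : Subgroup (Wr n) where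
  carrier := {p | par hn (p.a + p.b) = 0}
  one_mem' := by simp
  mul_mem' := fun {p q} hp hq => by
    simp only [Set.mem_ofPred_eq, map_add] at hp hq ⊢
    rcases p with ⟨x, y, _ | _⟩ <;> simp at hp ⊢ <;> linear_combination hp + hq
  inv_mem' := fun {p} hp => by
    simp only [Set.mem_ofPred_eq, map_add] at hp ⊢
    rcases p with ⟨x, y, _ | _⟩ <;> simp at hp ⊢ <;>
      linear_combination hp

theorem index_sumEven (hn : 1 ≤ n) : (sumEven hn).index = 2 := by
  refine Subgroup.index_eq_two_iff.mpr ⟨⟨1, 0, false⟩, fun p => ?_⟩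
  show Xor (par hn ((p * ⟨1, 0, false⟩).a + (p * ⟨1, 0, false⟩).b) = 0) (par hn (p.a + p.b) = 0)
  have key : ∀ z : ZMod 2, Xor (z + 1 = 0) (z = 0) := by decide
  convert key (par hn (p.a + p.b)) using 2
  rcases p with ⟨x, y, _ | _⟩ <;> simp <;> ring_nf

theorem index_base (hn : 1 ≤ n) : (base n).index = 2 := by
  refine Subgroup.index_eq_two_iff.mpr ⟨⟨0, 0, true⟩, fun p => ?_⟩
  rcases p with ⟨x, y, _ | _⟩ <;>
    simp [mem_base, Xor]

theorem quadV_le_sumEven (hn : 2 ≤ n) : quadV n ≤ sumEven (show 1 ≤ n by omega) := by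
  intro p hp
  show par _ (p.a + p.b) = 0
  have h2 : par (show 1 ≤ n by omega) (half n) = 0 := by
    rw [half, map_natCast, ZMod.natCast_eq_zero_iff]
    exact dvd_pow_self 2 (by omega)
  have key : ∀ u v : ZMod 2, u - v = 0 → u + v = 0 := by decide
  rw [map_add]
  refine key _ _ ?_
  rw [← map_sub]
  rcases eq_zero_or_half (by omega) (mem_quadV.mp hp) with h | h <;> rw [h]
  exacts [map_zero _, h2]

theorem both_moved [Finite S] (hS : IsPGroup 2 S) (hsim : F.IsSimple 2)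
    (hreal : F.IsRealizable 2) (hZ : F.center = ⊥) (hn : 2 ≤ n) (e : Wr n ≃* S) :
    ¬ IsPGroup 2 (F.autGroup (up e (base n))) ∧ ¬ IsPGroup 2 (F.autGroup (up e (quadV n))) := by
  constructor
  · obtain ⟨X, hX, hA, hXT⟩ := exists_cand_not_le hS hsim hreal hZ e (sumEven (show 1 ≤ n by omega))
      (index_sumEven _)
    rcases cand_cases hn hX with rfl | ⟨-, g, hg⟩
    · exact hA
    · refine absurd (fun x hx => ?_) hXT
      haveI := Subgroup.normal_of_index_eq_two (index_sumEven (n := n) (show 1 ≤ n by omega))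
      have h1 : g * x * g⁻¹ ∈ sumEven (show 1 ≤ n by omega) :=
        quadV_le_sumEven hn (hg ▸ ⟨x, hx, rfl⟩)
      have := Subgroup.Normal.conj_mem inferInstance _ h1 g⁻¹
      simpa [mul_assoc] using this
  · obtain ⟨X, hX, hA, hXT⟩ := exists_cand_not_le hS hsim hreal hZ e (base n) (index_base (by omega))
    rcases cand_cases hn hX with rfl | ⟨-, g, hg⟩
    · exact absurd le_rfl hXT
    · rw [← hg]
      exact fun hp => hA ((isConj_up e F X g).2.mpr hp)

theorem realized_wreathed [Finite S] (hS : IsPGroup 2 S) (hsim : F.IsSimple 2)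
    (hreal : F.IsRealizable 2) (hZ : F.center = ⊥) (hn : 2 ≤ n) (e : Wr n ≃* S) :
    ∃ (K : Type) (_ : Field K) (_ : Fintype K), Odd (Fintype.card K) ∧
      ∃ (U : Sylow 2 SL(3, K)) (ι : S →* SL(3, K)), F.IsRealizedBy ι ∧ (U : Subgroup SL(3, K)) = ι.range := by
  haveI : Fact (Nat.Prime 2) := ⟨Nat.prime_two⟩
  obtain ⟨e', -, hrot⟩ := exists_aligned hS hsim.1 hn e (both_moved hS hsim hreal hZ hn e).1
  obtain ⟨hb, hq⟩ := both_moved hS hsim hreal hZ hn e'
  obtain ⟨K, _, _, ζ, hodd, hζ, hfac⟩ := exists_linear_param hn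
  classical
  set ι₀ : Wr n →* SL(3, K) := embThree.comp (monoHom ζ hζ)
  obtain ⟨U, φ, hφ⟩ := exists_sylow_wr ι₀ (embThree_injective.comp (monoHom_injective ζ hζ))
    (by rw [factorization_SL3 hodd, hfac])
  have hq' : Moved ((quadV n).map ι₀) := by
    rw [← Subgroup.map_map]
    exact (moved_quad_GL hn hodd hζ).map _ embThree_injective
  have hagree := agree_wreathed hS hsim.1 hn e' (fun _ => hrot) ι₀ U φ hφ
    (fun _ => ⟨cycThree, fun v hv => cycThree_conj hζ hv⟩) (fun h => absurd hb h)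
    (iff_of_true hq' hq)
  have hr : (U : Subgroup SL(3, K)) =
      ((U : Subgroup SL(3, K)).subtype.comp (e'.symm.trans φ).toMonoidHom).range := by
    rw [MonoidHom.range_comp, MonoidHom.range_eq_top.mpr (e'.symm.trans φ).surjective,
      ← MonoidHom.range_eq_map, Subgroup.range_subtype]
  refine ⟨K, inferInstance, inferInstance, hodd, U, (U : Subgroup SL(3, K)).subtype.comp (e'.symm.trans φ).toMonoidHom, ?_, hr⟩
  rw [eq_of_autGroup_eq hS hsim.1 (saturated_pullSystem _ _ U hr) hagree]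
  exact realizedBy_pullSystem _ _

end Wreathed

/-- Passing to the quotient by a central subgroup of odd order. -/
theorem realized_quotient {G : Type} [Group G] [Finite G] (U : Sylow 2 G) {ι : S →* G}
    (h : F.IsRealizedBy ι) (hU : (U : Subgroup G) = ι.range) (Z : Subgroup G) [Z.Normal]
    (hZ : Z ≤ Subgroup.center G) (hodd : ∀ z ∈ Z, z * z = 1 → z = 1) :
    ∃ ι' : S →* G ⧸ Z, F.IsRealizedBy ι' ∧ ∃ T : Sylow 2 (G ⧸ Z), (T : Subgroup (G ⧸ Z)) = ι'.range := by
  haveI : Fact (Nat.Prime 2) := ⟨Nat.prime_two⟩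
  set π := QuotientGroup.mk' Z
  have hUp : ∀ x : S, ∃ k : ℕ, ι x ^ 2 ^ k = 1 := fun x => by
    obtain ⟨k, hk⟩ := U.isPGroup' ⟨ι x, hU.ge ⟨x, rfl⟩⟩
    exact ⟨k, congrArg Subtype.val hk⟩
  have htriv : ∀ (k : ℕ) (z : G), z ∈ Z → z ^ 2 ^ k = 1 → z = 1 := by
    intro k
    induction k with
    | zero => intro z _ hz; simpa using hz
    | succ k ih =>
      intro z hz hz2
      refine hodd z hz ?_
      rw [← pow_two]
      exact ih _ (pow_mem hz 2) (by rw [← pow_mul, ← pow_succ']; exact hz2)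
  have hkey : ∀ (g : G) (x y : S), π (ι y) = π (g * ι x * g⁻¹) → ι y = g * ι x * g⁻¹ := by
    intro g x y hπ
    obtain ⟨z, hz, hz'⟩ := (QuotientGroup.mk'_eq_mk' Z).mp hπ
    obtain ⟨i, hi⟩ := hUp y
    obtain ⟨j, hj⟩ := hUp x
    have h1 : z ^ 2 ^ (i + j) = 1 := by
      have hc : Commute (ι y) z := Subgroup.mem_center_iff.mp (hZ hz) _
      have h2 := congrArg (· ^ 2 ^ (i + j)) hz'
      simp only [hc.mul_pow, conj_pow] at h2
      rw [pow_add, pow_mul, hi, one_pow, one_mul] at h2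
      rw [pow_add, h2, mul_comm (2 ^ i), pow_mul, hj, one_pow, mul_one, mul_inv_cancel]
    rw [htriv _ z hz h1, mul_one] at hz'
    exact hz'
  refine ⟨π.comp ι, ⟨?_, fun P hP φ hφ => ⟨fun hm => ?_, fun ⟨g, hg⟩ => ?_⟩⟩,
    U.mapSurjective (QuotientGroup.mk'_surjective Z), ?_⟩
  · intro x y hxy
    refine h.1 ?_
    have := hkey 1 y x (by simpa using hxy)
    simpa using this
  · obtain ⟨g, hg⟩ := (h.2 P hP φ hφ).mp hm
    exact ⟨π g, fun x => by simp [hg x]⟩
  · obtain ⟨g, rfl⟩ := QuotientGroup.mk'_surjective Z g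
    refine (h.2 P hP φ hφ).mpr ⟨g, fun x => hkey g _ _ ?_⟩
    rw [map_mul, map_mul, map_inv]
    exact hg x
  · rw [Sylow.coe_mapSurjective, hU, MonoidHom.range_comp]

theorem center_SL3_odd {K : Type} [Field K] {z : SL(3, K)} (hz : z ∈ Subgroup.center SL(3, K))
    (h2 : z * z = 1) : z = 1 := by
  obtain ⟨r, hr, hrz⟩ := Matrix.SpecialLinearGroup.mem_center_iff.mp hz
  have h3 : r ^ 3 = 1 := by simpa using hr
  have h4 : r * r = 1 := by
    have := congrArg (fun w : SL(3, K) => (w : Matrix (Fin 3) (Fin 3) K) 0 0) h2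
    simp [← hrz] at this
    exact this
  have h5 : r = 1 := by linear_combination (norm := ring_nf) h3 - r * h4
  apply Subtype.ext
  rw [← hrz, h5]
  simp

/-- The conclusion. -/
theorem simple_linear [Finite S] (hS : IsPGroup 2 S) (hsim : F.IsSimple 2)
    (hr2 : Cfsg.PRankAtLeast 2 2 S) (hr : ¬ Cfsg.PRankAtLeast 2 3 S) :
    ∃ (K : Type) (_ : Field K) (_ : Fintype K) (q : ℕ), Fintype.card K = q ∧ Odd q ∧
      (((q % 8 = 1 ∨ q % 8 = 7) ∧ ∃ ι : S →* Matrix.ProjectiveSpecialLinearGroup (Fin 2) K,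
          F.IsRealizedBy ι ∧ ∃ T : Sylow 2 (Matrix.ProjectiveSpecialLinearGroup (Fin 2) K),
            (T : Subgroup (Matrix.ProjectiveSpecialLinearGroup (Fin 2) K)) = ι.range) ∨
        (∃ ι : S →* Matrix.ProjectiveSpecialLinearGroup (Fin 3) K,
          F.IsRealizedBy ι ∧ ∃ T : Sylow 2 (Matrix.ProjectiveSpecialLinearGroup (Fin 3) K),
            (T : Subgroup (Matrix.ProjectiveSpecialLinearGroup (Fin 3) K)) = ι.range)) := by
  haveI : Fact (Nat.Prime 2) := ⟨Nat.prime_two⟩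
  have hZ := center_eq_bot_of_simple hS hsim hr2
  have hreal := realizable hS hsim.1 hr2 hr hZ
  rcases simple_shape hS hsim hr2 hr with ⟨m, hm, ⟨e⟩⟩ | hQ | hW
  · haveI : NeZero m := ⟨by omega⟩
    obtain ⟨k, hk, a, b, h⟩ := mc_of_dihedral hS hm e
    obtain ⟨q, _, hq8, U, a', b', hT, hU⟩ := models_psl2_dihedral hk
    obtain ⟨ι, hι, hr'⟩ := realized_max hS hsim hreal hZ (MulEquiv.refl S) h U hT hU
    exact ⟨ZMod q, inferInstance, inferInstance, q, ZMod.card q, Nat.odd_iff.mpr (by omega),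
      Or.inl ⟨Or.inr hq8, ι, hι, U, hr'⟩⟩
  · obtain ⟨m, a, b, hm, hT0⟩ := Cfsg.Lib.QD.exists_gen hQ
    have h : MC a b m (2 ^ (m - 1) - 1) 0 := ⟨hT0, by omega, by simp, dvd_zero _, fun h2 => by omega⟩
    obtain ⟨q, _, hqo, U, a', b', hT, hU⟩ := models_sl3_semi hm
    obtain ⟨ι, hι, hr'⟩ := realized_max hS hsim hreal hZ (MulEquiv.refl S) h U hT hU
    obtain ⟨ι', hι', hsy⟩ := realized_quotient U hι hr' (Subgroup.center SL(3, ZMod q)) le_rfl
      fun z hz => center_SL3_odd hz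
    exact ⟨ZMod q, inferInstance, inferInstance, q, ZMod.card q, hqo, Or.inr ⟨ι', hι', hsy⟩⟩
  · obtain ⟨n, hn, -, ⟨e⟩⟩ := Cfsg.Lib.Wreathed.exists_equiv hW
    obtain ⟨K, _, _, hodd, U, ι, hι, hr'⟩ := realized_wreathed hS hsim hreal hZ hn e
    classical
    obtain ⟨ι', hι', hsy⟩ := realized_quotient U hι hr' (Subgroup.center SL(3, K)) le_rfl
      fun z hz => center_SL3_odd hz
    exact ⟨K, inferInstance, inferInstance, Fintype.card K, rfl, hodd, Or.inr ⟨ι', hι', hsy⟩⟩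

end Cfsg.Lib.RankTwoCenter
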