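import Cfsg.Agent.Fusion.RankTwoCenter.Sites
import Cfsg.Agent.TwoFusion.RankTwoTrans.Main
import Cfsg.Agent.PGroups.MetacyclicTwo
import Mathlib.GroupTheory.SpecificGroups.Quaternion

/-!
The Sylow groups of the saturated systems of two-rank two with trivial centre.
-/

set_option autoImplicit false
set_option linter.style.haveILetI false

universe u

namespace Cfsg.Lib.RankTwoCenter

open Cfsg Cfsg.FusionSystem Cfsg.Lib.Fusion Cfsg.Lib.RankTwoTrans

variable {Ω : Type u} [Group Ω] {S : Subgroup Ω} {F : FusionSystem S}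

/-- The identity normal form. -/
abbrev nfOne : NF := (0, false, false)

theorem nf_sq_sq : ∀ p : NF, mulNF (mulNF p p) (mulNF p p) = nfOne := by decide +kernel

theorem nf_three_squares : ∀ p : NF, mulNF p p ≠ nfOne → ∀ q : NF, mulNF q q = mulNF p p →
    mulNF (mulNF p q) (mulNF p q) ≠ mulNF p p := by decide +kernel

theorem nf_card_invol : Fintype.card {p : NF // mulNF p p = nfOne} = 4 := by decide +kernel

theorem nf_one {T : Type*} [Group T] (R : Rels T) : R.nf nfOne = 1 := by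
  simp [Rels.nf, R.e_zero]

theorem rels_facts {T : Type*} [Group T] (R : Rels T) :
    Nat.card T = 64 ∧ (∀ v : T, v * v * (v * v) = 1) ∧ Nat.card {v : T // v * v = 1} = 4 ∧
      ∀ v w : T, v * v ≠ 1 → w * w = v * v → v * w * (v * w) ≠ v * v := by
  have h1 : ∀ p, (R.nf p * R.nf p = 1 ↔ mulNF p p = nfOne) := fun p => by
    rw [R.nf_mul, ← nf_one R, R.nf_injective.eq_iff]
  refine ⟨?_, fun v => ?_, ?_, fun v w hv hw => ?_⟩
  · rw [← Nat.card_congr R.equivNF, Nat.card_eq_fintype_card]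
    rfl
  · obtain ⟨p, rfl⟩ := R.nf_surjective v
    rw [R.nf_mul, R.nf_mul, nf_sq_sq, nf_one]
  · rw [← Nat.card_congr (R.equivNF.subtypeEquiv (p := fun p => mulNF p p = nfOne)
      (q := fun v : T => v * v = 1) fun p => (h1 p).symm), Nat.card_eq_fintype_card, nf_card_invol]
  · obtain ⟨p, rfl⟩ := R.nf_surjective v
    obtain ⟨q, rfl⟩ := R.nf_surjective w
    rw [R.nf_mul, R.nf_mul] at hw
    rw [R.nf_mul, R.nf_mul, R.nf_mul]
    exact fun e => nf_three_squares p ((h1 p).not.mp hv) q (R.nf_injective hw) (R.nf_injective e)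

theorem fixed_invol {T : Type*} [Group T] {τ : MulAut T} {a b : T} (hne : τ a ≠ a) (h2 : τ (τ a) = a)
    (hb : τ b = b) (hall : ∀ s : T, s * s = 1 → s ≠ 1 → s = a ∨ s = τ a ∨ s = b) {s : T} (hs : s * s = 1)
    (hs1 : s ≠ 1) (hfix : τ s = s) : s = b := by
  rcases hall s hs hs1 with rfl | rfl | h
  · exact absurd hfix hne
  · exact absurd (h2.symm.trans hfix).symm hne
  · exact h

/-- No automorphism swapping two involutions has inner square on the group of order 64. -/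
theorem rels_no_swap {T : Type*} [Group T] [Finite T] (R : Rels T)
    (hcent : ∀ s : T, s * s = 1 → ∀ x, x * s = s * x) (τ : MulAut T) {q : T}
    (hτ : ∀ v, τ (τ v) = q * v * q⁻¹) {i : T} (hi : i * i = 1) (hne : τ i ≠ i) : False := by
  classical
  obtain ⟨hcard, hsq, hW4, hthree⟩ := rels_facts R
  let W : Subgroup T :=
    { carrier := {s | s * s = 1}
      one_mem' := one_mul 1
      mul_mem' := fun {x y} hx hy => by
        show x * y * (x * y) = 1
        rw [mul_assoc, ← mul_assoc y, hcent x hx y, mul_assoc x y y, show y * y = 1 from hy, mul_one,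
          show x * x = 1 from hx]
      inv_mem' := fun {x} hx => by
        show x⁻¹ * x⁻¹ = 1
        rw [← mul_inv_rev, show x * x = 1 from hx, inv_one] }
  haveI : W.Normal := ⟨fun s hs g => by rw [hcent s hs g, mul_inv_cancel_right]; exact hs⟩
  have hW : Nat.card W = 4 := hW4
  let π := QuotientGroup.mk' W
  have hπ : ∀ v, π v = 1 ↔ v * v = 1 := fun v => QuotientGroup.eq_one_iff v
  have hsqV : ∀ a : T ⧸ W, a * a = 1 := fun a => by
    obtain ⟨v, rfl⟩ := QuotientGroup.mk'_surjective W a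
    rw [← map_mul]
    exact (hπ _).mpr (hsq v)
  have hcomm : ∀ a b : T ⧸ W, a * b = b * a := fun a b => by
    have h := hsqV (a * b)
    calc a * b = a * (a * b * (a * b)) * b := by rw [h, mul_one]
      _ = a * a * (b * a) * (b * b) := by group
      _ = b * a := by rw [hsqV, hsqV, one_mul, mul_one]
  let d : T →* T ⧸ W := MonoidHom.mk' (fun v => π v * π (τ v)) fun v w => by
    simp only [map_mul]
    rw [mul_assoc, ← mul_assoc (π w), hcomm (π w) (π (τ v)), mul_assoc, ← mul_assoc]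
  set H := d.ker with hH
  have hWH : W ≤ H := fun s hs => by
    show π s * π (τ s) = 1
    rw [(hπ s).mpr hs, (hπ (τ s)).mpr (by rw [← map_mul, show s * s = 1 from hs, map_one]), one_mul]
  have hrange : d.range ≤ H.map π := by
    rintro _ ⟨v, rfl⟩
    refine ⟨v * τ v, ?_, map_mul π v (τ v)⟩
    show π (v * τ v) * π (τ (v * τ v)) = 1
    simp only [map_mul, map_inv, hτ]
    rw [hcomm (π q), mul_inv_cancel_right, hcomm (π (τ v)) (π v), hsqV]
  have hcardH : Nat.card H = 4 * Nat.card (H.map π) := by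
    have h := Subgroup.card_mul_index (π.comp H.subtype).ker
    rw [Subgroup.index_ker, MonoidHom.range_comp, Subgroup.range_subtype] at h
    rw [← h]
    congr 1
    rw [← hW, ← Nat.card_congr (Subgroup.subgroupOfEquivOfLe hWH).toEquiv]
    congr 2
    ext v
    exact ⟨fun hv => (hπ v).mp hv, fun hv => (hπ v).mpr hv⟩
  have h3 : 2 < Nat.card (H.map π) := by
    by_contra h
    push Not at h
    have h1 := Subgroup.card_mul_index d.ker
    rw [Subgroup.index_ker, hcard, ← hH, hcardH] at h1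
    have h2 : 4 * Nat.card (H.map π) * Nat.card d.range ≤ 4 * 2 * 2 :=
      Nat.mul_le_mul (Nat.mul_le_mul_left 4 h) ((Subgroup.card_le_of_le hrange).trans h)
    omega
  haveI : Fintype (H.map π) := Fintype.ofFinite _
  rw [Nat.card_eq_fintype_card, Fintype.two_lt_card_iff] at h3
  obtain ⟨a, b, c, hab, hac, hbc⟩ := h3
  obtain ⟨x, y, hx, hy, hxy⟩ : ∃ x y : H.map π, x ≠ 1 ∧ y ≠ 1 ∧ x ≠ y := by
    by_cases ha : a = 1
    · exact ⟨b, c, ha ▸ hab.symm, ha ▸ hac.symm, hbc⟩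
    by_cases hb : b = 1
    · exact ⟨a, c, ha, hb ▸ hbc.symm, hac⟩
    exact ⟨a, b, ha, hb, hab⟩
  obtain ⟨p, hp, hpx⟩ := x.2
  obtain ⟨r, hr, hry⟩ := y.2
  have hfixsq : ∀ v ∈ H, τ (v * v) = v * v := by
    intro v hv
    have h1 : π v⁻¹ * π (τ v) = 1 := by
      rw [map_inv, inv_eq_of_mul_eq_one_right (hsqV (π v))]
      exact hv
    rw [← map_mul] at h1
    have hw : v⁻¹ * τ v * (v⁻¹ * τ v) = 1 := (hπ _).mp h1
    obtain ⟨w, hw2, hwv⟩ : ∃ w, w * w = 1 ∧ τ v = v * w :=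
      ⟨v⁻¹ * τ v, hw, by rw [mul_inv_cancel_left]⟩
    rw [map_mul, hwv, mul_assoc, ← mul_assoc w, ← hcent w hw2 v, mul_assoc v w w, hw2, mul_one]
  have hnW : ∀ v, π v ≠ 1 → v * v ≠ 1 := fun v hv h => hv ((hπ v).mpr h)
  have hp1 : p * p ≠ 1 := hnW p (hpx ▸ fun e => hx (Subtype.ext e))
  have hr1 : r * r ≠ 1 := hnW r (hry ▸ fun e => hy (Subtype.ext e))
  have hpr1 : p * r * (p * r) ≠ 1 := hnW _ fun e => hxy (Subtype.ext (by
    rw [map_mul, hpx, hry] at e
    rw [eq_inv_of_mul_eq_one_left e, inv_eq_of_mul_eq_one_right (hsqV y)]))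
  have hi1 : i ≠ 1 := fun e => hne (by rw [e, map_one])
  have hτi : τ i * τ i = 1 := by rw [← map_mul, hi, map_one]
  have h2 : τ (τ i) = i := by rw [hτ, hcent i hi q, mul_inv_cancel_right]
  have hb : τ (i * τ i) = i * τ i := by rw [map_mul, h2, hcent i hi]
  have hall : ∀ s : T, s * s = 1 → s ≠ 1 → s = i ∨ s = τ i ∨ s = i * τ i := by
    intro s hs hs1
    have hiW : i ∈ W := hi
    have hjW : τ i ∈ W := hτi
    have hkW : i * τ i ∈ W := mul_mem hiW hjW
    by_contra hno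
    push Not at hno
    obtain ⟨g1, g2, g3⟩ := hno
    have e1 : i ≠ i * τ i := fun e => hi1 (τ.injective (by rw [mul_eq_left.mp e.symm, map_one]))
    have e2 : τ i ≠ i * τ i := fun e => hi1 (mul_eq_right.mp e.symm)
    have e3 : i * τ i ≠ 1 := fun e => hne (by
      rw [eq_inv_of_mul_eq_one_right e, inv_eq_of_mul_eq_one_right hi])
    have e4 : τ i ≠ 1 := fun e => hi1 (τ.injective (by rw [e, map_one]))
    have hcard5 : ({1, i, τ i, i * τ i, s} : Finset T).card = 5 := by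
      rw [Finset.card_insert_of_notMem, Finset.card_insert_of_notMem, Finset.card_insert_of_notMem,
        Finset.card_insert_of_notMem, Finset.card_singleton]
      all_goals simp only [Finset.mem_insert, Finset.mem_singleton, not_or]
      exacts [g3.symm, ⟨e2, g2.symm⟩, ⟨hne.symm, e1, g1.symm⟩, ⟨hi1.symm, e4.symm, e3.symm, hs1.symm⟩]
    have hsub : ({1, i, τ i, i * τ i, s} : Finset T).card ≤ Nat.card W := by
      rw [← Nat.card_eq_finsetCard]
      refine Nat.card_le_card_of_injective (fun w => ⟨w.1, ?_⟩) fun v w e =>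
        Subtype.ext (congrArg (fun z : W => (z : T)) e)
      obtain ⟨w, hw⟩ := w
      simp only [Finset.mem_insert, Finset.mem_singleton] at hw
      rcases hw with rfl | rfl | rfl | rfl | rfl
      exacts [W.one_mem, hiW, hjW, hkW, hs]
    omega
  have hall' : ∀ v ∈ H, v * v ≠ 1 → v * v = i * τ i := fun v hv hv1 =>
    fixed_invol hne h2 hb hall (hsq v) hv1 (hfixsq v hv)
  exact hthree p r hp1 (by rw [hall' p hp hp1, hall' r hr hr1])
    (by rw [hall' p hp hp1, hall' _ (mul_mem hp hr) hpr1])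

theorem quaternion_one_involution {m : ℕ} [NeZero m] {s t : QuaternionGroup m} (hs : s * s = 1)
    (ht : t * t = 1) (hs1 : s ≠ 1) (ht1 : t ≠ 1) : s = t := by
  have key : ∀ v : QuaternionGroup m, v * v = 1 → v ≠ 1 →
      ∃ i : ZMod (2 * m), v = QuaternionGroup.a i ∧ i.val = m := by
    intro v hv hv1
    cases v with
    | a i =>
      refine ⟨i, rfl, ?_⟩
      rw [QuaternionGroup.a_mul_a, QuaternionGroup.one_def, QuaternionGroup.a.injEq] at hv
      rcases (ZMod.neg_eq_self_iff i).mp (neg_eq_of_add_eq_zero_left hv) with h | h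
      · exact absurd (by rw [h]; rfl) hv1
      · omega
    | xa i =>
      rw [QuaternionGroup.xa_mul_xa, QuaternionGroup.one_def, QuaternionGroup.a.injEq,
        add_sub_assoc, sub_self, add_zero, ZMod.natCast_eq_zero_iff] at hv
      have := Nat.le_of_dvd (Nat.pos_of_ne_zero (NeZero.ne m)) hv
      have := NeZero.ne m
      omega
  obtain ⟨i, rfl, hi⟩ := key s hs hs1
  obtain ⟨j, rfl, hj⟩ := key t ht ht1
  rw [ZMod.val_injective _ (hi.trans hj.symm)]

/-- A proper self-centralizing four-subgroup with two involutions. -/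
theorem shape_four {X : Type*} [Group X] [Finite X] (hX : IsPGroup 2 X) {A : Subgroup X}
    (hA : Nat.card A = 4) (hC : Subgroup.centralizer (A : Set X) = A) (hne : A ≠ ⊤) {s t : X}
    (hs : s * s = 1) (ht : t * t = 1) (hs1 : s ≠ 1) (ht1 : t ≠ 1) (hst : s ≠ t) :
    (∃ m, 4 ≤ m ∧ Nonempty (X ≃* DihedralGroup m)) ∨ Cfsg.IsQuasiDihedral X := by
  haveI : Fact (Nat.Prime 2) := ⟨Nat.prime_two⟩
  haveI : Group.IsNilpotent X := hX.isNilpotent
  obtain ⟨n, hn⟩ := hX.exists_card_eq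
  have h3 : 3 ≤ n := by
    by_contra h
    have h1 : Nat.card X ≤ 2 ^ 2 := hn ▸ Nat.pow_le_pow_right (by norm_num) (by omega)
    exact hne (Subgroup.eq_top_of_card_eq A (le_antisymm A.card_le_card_group (by rw [hA]; exact h1)))
  have hc := Cfsg.Lib.MaxClass.of_self_centralizing n X hn A (by rw [hA]; norm_num) hC
  rcases Cfsg.Lib.MetaTwo.shape_of_maxClass hn h3 hc with ⟨m, -, ⟨e⟩⟩ | h | ⟨m, hm, ⟨e⟩⟩
  · refine Or.inl ⟨m, ?_, ⟨e⟩⟩
    have h1 := Nat.card_congr e.toEquiv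
    rw [hn, DihedralGroup.nat_card] at h1
    have : 2 ^ 3 ≤ 2 ^ n := Nat.pow_le_pow_right (by norm_num) h3
    omega
  · exact Or.inr h
  · haveI : NeZero m := ⟨by omega⟩
    refine absurd (e.injective (quaternion_one_involution ?_ ?_ ?_ ?_)) hst
    · rw [← map_mul, hs, map_one]
    · rw [← map_mul, ht, map_one]
    · exact fun h => hs1 (e.injective (h.trans (map_one e).symm))
    · exact fun h => ht1 (e.injective (h.trans (map_one e).symm))

theorem two_torsion {n : ℕ} (hn : 1 ≤ n) (a : ZMod (2 ^ n)) (h : a + a = 0) :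
    ∃ c : ZMod (2 ^ n), (2 ^ (n - 1)) • c = a := by
  have h2 : 2 ^ n = 2 * 2 ^ (n - 1) := by rw [← pow_succ']; congr 1; omega
  rw [← ZMod.natCast_zmod_val a, ← Nat.cast_add, ZMod.natCast_eq_zero_iff, ← two_mul] at h
  obtain ⟨k, hk⟩ := Nat.dvd_of_mul_dvd_mul_left (by norm_num : 0 < 2) ((dvd_of_eq h2.symm).trans h)
  exact ⟨(k : ZMod (2 ^ n)), by rw [nsmul_eq_mul, ← Nat.cast_mul, ← hk, ZMod.natCast_zmod_val]⟩

/-- A homocyclic subgroup with two involutions swapped by its normalizer. -/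
theorem wreathed_of_swap [Finite S] (hS : IsPGroup 2 S) {P : Subgroup Ω} (hPS : P ≤ S) {n : ℕ}
    (hn : 2 ≤ n) (E : P ≃* Multiplicative (ZMod (2 ^ n) × ZMod (2 ^ n))) {x : Ω}
    (hx : x ∈ normalizerIn S P) (hxP : x ∉ P) (hx2 : x * x ∈ P)
    (hcos : ∀ g ∈ normalizerIn S P, g ∉ P → x * g ∈ P) {i : Ω} (hiP : i ∈ P) (hi : i * i = 1)
    (hne : x * i * x⁻¹ ≠ i) : Cfsg.IsWreathed S := by
  haveI : Fact (Nat.Prime 2) := ⟨Nat.prime_two⟩
  haveI := finite_of_le hPS
  set N := normalizerIn S P with hNdef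
  haveI : Finite N := finite_of_le inf_le_left
  have hP2 : IsPGroup 2 P := hS.of_injective _ (Subgroup.inclusion_injective hPS)
  have hcom : ∀ a b : P, a * b = b * a := fun a b => E.injective (by rw [map_mul, map_mul, mul_comm])
  have hcard : Nat.card P = 2 ^ n * 2 ^ n := by
    rw [Nat.card_congr E.toEquiv, Nat.card_congr Multiplicative.toAdd, Nat.card_prod, Nat.card_zmod]
  have hexp : ∀ v : P, v ^ 2 ^ n = 1 := fun v => E.injective (by
    rw [map_pow, map_one]
    apply Multiplicative.toAdd.injective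
    rw [toAdd_pow, toAdd_one]
    have hz : (2 : ZMod (2 ^ n)) ^ n = 0 := by exact_mod_cast ZMod.natCast_self (2 ^ n)
    ext <;> simp [hz])
  set τ : MulAut P := conjAut P x hx.2 with hτdef
  have hτ : ∀ v : P, ((τ v : P) : Ω) = x * v * x⁻¹ := fun v => conjAut_apply hx.2 v
  have hττ : ∀ v : P, τ (τ v) = v := fun v => Subtype.ext (by
    rw [hτ, hτ]
    have h : x * x * v = v * (x * x) := congrArg Subtype.val (hcom ⟨x * x, hx2⟩ v)
    calc x * (x * v * x⁻¹) * x⁻¹ = x * x * v * (x * x)⁻¹ := by group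
      _ = v := by rw [h, mul_inv_cancel_right])
  set i' : P := ⟨i, hiP⟩ with hi'
  have hi'2 : i' * i' = 1 := Subtype.ext hi
  have hne' : τ i' ≠ i' := fun e => hne ((hτ i').symm.trans (congrArg Subtype.val e))
  have hi'1 : i' ≠ 1 := fun e => hne' (by rw [e, map_one])
  obtain ⟨u, hu⟩ : ∃ u : P, u ^ 2 ^ (n - 1) = i' := by
    have h : Multiplicative.toAdd (E i') + Multiplicative.toAdd (E i') = 0 := by
      rw [← toAdd_mul, ← map_mul, hi'2, map_one, toAdd_one]
    obtain ⟨c, hc⟩ := two_torsion (by omega) _ (congrArg Prod.fst h)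
    obtain ⟨d, hd⟩ := two_torsion (by omega) _ (congrArg Prod.snd h)
    refine ⟨E.symm (Multiplicative.ofAdd (c, d)), E.injective ?_⟩
    rw [map_pow, E.apply_symm_apply]
    apply Multiplicative.toAdd.injective
    rw [toAdd_pow, toAdd_ofAdd]
    exact Prod.ext hc hd
  have hou : orderOf u = 2 ^ n := by
    conv_rhs => rw [show n = n - 1 + 1 by omega]
    refine orderOf_eq_prime_pow (by rw [hu]; exact hi'1) ?_
    rw [show n - 1 + 1 = n by omega]
    exact hexp u
  have hov : orderOf (τ u) = 2 ^ n := (orderOf_injective τ.toMonoidHom τ.injective u).trans hou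
  have hcyc : ∀ (w j : P), orderOf w = 2 ^ n → w ^ 2 ^ (n - 1) = j → ∀ c ∈ Subgroup.zpowers w,
      c * c = 1 → c ≠ 1 → c = j := by
    intro w j ho hj c hc hc2 hc1
    obtain ⟨k, rfl⟩ := mem_powers_iff_mem_zpowers.mpr hc
    have h : 2 ^ n ∣ k + k := ho ▸ orderOf_dvd_of_pow_eq_one (by rw [pow_add]; exact hc2)
    have h2 : 2 ^ n = 2 * 2 ^ (n - 1) := by rw [← pow_succ']; congr 1; omega
    rw [h2, ← two_mul] at h
    obtain ⟨l, hl⟩ := Nat.dvd_of_mul_dvd_mul_left (by norm_num) h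
    show w ^ k = j
    have hj2 : j * j = 1 := by
      rw [← hj, ← pow_add, ← two_mul, ← h2, ← ho, pow_orderOf_eq_one]
    change w ^ k ≠ 1 at hc1
    rw [hl, pow_mul, hj] at hc1 ⊢
    obtain ⟨r, rfl | rfl⟩ := Nat.even_or_odd' l
    · exact absurd (by rw [pow_mul, pow_two, hj2, one_pow]) hc1
    · rw [pow_succ, pow_mul, pow_two, hj2, one_pow, one_mul]
  have hdisj : ∀ c, c ∈ Subgroup.zpowers u → c ∈ Subgroup.zpowers (τ u) → c = 1 := by
    intro c hc hc'
    by_contra h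
    obtain ⟨k, hk1, hk2⟩ := exists_involution hP2 h
    have e1 := hcyc u i' hou hu _ (pow_mem hc k) hk2 hk1
    have e2 := hcyc (τ u) (τ i') hov (by rw [← map_pow, hu]) _ (pow_mem hc' k) hk2 hk1
    exact hne' (e2.symm.trans e1)
  have hinj : ∀ a b c d : ℕ, u ^ a * τ u ^ b = u ^ c * τ u ^ d →
      a % 2 ^ n = c % 2 ^ n ∧ b % 2 ^ n = d % 2 ^ n := by
    intro a b c d h
    have h1 : (u ^ c)⁻¹ * u ^ a = τ u ^ d * (τ u ^ b)⁻¹ := by
      rw [eq_mul_inv_iff_mul_eq, mul_assoc, h, inv_mul_cancel_left]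
    have h2 := hdisj _ (mul_mem (inv_mem (Subgroup.npow_mem_zpowers u c)) (Subgroup.npow_mem_zpowers u a))
      (h1 ▸ mul_mem (Subgroup.npow_mem_zpowers _ d) (inv_mem (Subgroup.npow_mem_zpowers _ b)))
    have h3 : u ^ a = u ^ c := (inv_mul_eq_one.mp h2).symm
    rw [h3] at h
    exact ⟨hou ▸ (pow_eq_pow_iff_modEq.mp h3), hov ▸ pow_eq_pow_iff_modEq.mp (mul_left_cancel h)⟩
  have hsurj : ∀ v : P, ∃ a b : ℕ, a < 2 ^ n ∧ v = u ^ a * τ u ^ b := by
    let f : Fin (2 ^ n) × Fin (2 ^ n) → P := fun p => u ^ (p.1 : ℕ) * τ u ^ (p.2 : ℕ)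
    have hf : Function.Bijective f := (Nat.bijective_iff_injective_and_card f).mpr
      ⟨fun p q e => by
        obtain ⟨e1, e2⟩ := hinj _ _ _ _ e
        rw [Nat.mod_eq_of_lt p.1.isLt, Nat.mod_eq_of_lt q.1.isLt] at e1
        rw [Nat.mod_eq_of_lt p.2.isLt, Nat.mod_eq_of_lt q.2.isLt] at e2
        exact Prod.ext (Fin.ext e1) (Fin.ext e2), by
        rw [hcard, Nat.card_prod, Nat.card_fin]⟩
    intro v
    obtain ⟨p, rfl⟩ := hf.2 v
    exact ⟨p.1, p.2, p.1.isLt, rfl⟩
  have hfixed : ∀ v : P, τ v = v → ∃ a < 2 ^ n, v = u ^ a * τ u ^ a := by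
    intro v hv
    obtain ⟨a, b, ha, rfl⟩ := hsurj v
    refine ⟨a, ha, ?_⟩
    rw [map_mul, map_pow, map_pow, hττ, hcom] at hv
    obtain ⟨e1, -⟩ := hinj _ _ _ _ hv
    congr 1
    rw [pow_eq_pow_iff_modEq, hov]
    exact e1
  -- an involution outside
  obtain ⟨x', hx', hx'P, hx'2, hx'c⟩ : ∃ x' ∈ N, x' ∉ P ∧ x' * x' = 1 ∧
      ∀ v : P, ((τ v : P) : Ω) = x' * v * x'⁻¹ := by
    obtain ⟨a, -, ha⟩ := hfixed ⟨x * x, hx2⟩ (Subtype.ext (by rw [hτ]; group))
    set v := u ^ a with hvdef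
    rw [← map_pow, ← hvdef] at ha
    have hxx : x * x = (v : Ω) * (x * v * x⁻¹) := by
      rw [← hτ]; exact congrArg Subtype.val ha
    refine ⟨(v : Ω)⁻¹ * x, N.mul_mem (N.inv_mem (le_normalizerIn hPS v.2)) hx, fun h => hxP ?_, ?_,
      fun w => ?_⟩
    · simpa using P.mul_mem v.2 h
    · have hc2 : (x * (v : Ω)⁻¹ * x⁻¹ : Ω) * (v : Ω)⁻¹ = (v : Ω)⁻¹ * (x * (v : Ω)⁻¹ * x⁻¹) := by
        have h := congrArg Subtype.val (hcom (τ v⁻¹) v⁻¹)
        simp only [Subgroup.coe_mul, hτ, Subgroup.coe_inv] at h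
        exact h
      calc (v : Ω)⁻¹ * x * ((v : Ω)⁻¹ * x) = (v : Ω)⁻¹ * (x * (v : Ω)⁻¹ * x⁻¹) * (x * x) := by group
        _ = (v : Ω)⁻¹ * (x * (v : Ω)⁻¹ * x⁻¹) * ((v : Ω) * (x * v * x⁻¹)) := by rw [hxx]
        _ = (x * (v : Ω)⁻¹ * x⁻¹ : Ω) * (v : Ω)⁻¹ * ((v : Ω) * (x * v * x⁻¹)) := by rw [hc2]
        _ = 1 := by group
    · rw [hτ]
      have h : (v : Ω)⁻¹ * (x * w * x⁻¹) = x * w * x⁻¹ * (v : Ω)⁻¹ := by
        rw [← hτ]; exact congrArg Subtype.val (hcom v⁻¹ (τ w))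
      calc x * w * x⁻¹ = (x * w * x⁻¹ * (v : Ω)⁻¹) * v := by group
        _ = _ := by rw [← h]; group
  -- the normalizer is everything
  have hNS : N = S := by
    by_contra hne0
    obtain ⟨g, hg, hgN⟩ := SetLike.exists_of_lt
      (lt_normalizerIn hS (lt_of_le_of_ne (inf_le_left : N ≤ S) hne0))
    refine hgN ⟨hg.1, ?_⟩
    haveI := finite_of_le hPS
    refine mem_normalizer_of_maps_finite fun y hy => ?_
    by_contra hyP
    have hgN' : ∀ z ∈ P, g * z * g⁻¹ ∈ N := fun z hz =>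
      conj_mem_of_mem_normalizer hg.2 (le_normalizerIn hPS hz)
    let C : Set Ω := (fun a : ℕ => ((u ^ a * τ u ^ a : P) : Ω)) '' Set.Iio (2 ^ n)
    have hfixC : ∀ z ∈ P, z * (g * y * g⁻¹) = (g * y * g⁻¹) * z → z ∈ C := by
      intro z hz hzc
      have h1 := hcos _ (hgN' y hy) hyP
      have h2 : x * (g * y * g⁻¹) * z = z * (x * (g * y * g⁻¹)) :=
        congrArg Subtype.val (hcom ⟨_, h1⟩ ⟨z, hz⟩)
      have h3 : x * z = z * x := by
        rw [mul_assoc, ← hzc, ← mul_assoc, ← mul_assoc z] at h2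
        exact mul_right_cancel h2
      obtain ⟨a, ha, e⟩ := hfixed ⟨z, hz⟩ (Subtype.ext (by rw [hτ, h3, mul_inv_cancel_right]))
      exact ⟨a, ha, (congrArg Subtype.val e).symm⟩
    have hsub : (fun z : P => g * z * g⁻¹) '' Set.univ ⊆
        C ∪ (fun c => g * y * g⁻¹ * c) '' C := by
      rintro _ ⟨z, -, rfl⟩
      have hzc : (g * z * g⁻¹ : Ω) * (g * y * g⁻¹) = g * y * g⁻¹ * (g * z * g⁻¹) := by
        have h : (z : Ω) * y = y * z := congrArg Subtype.val (hcom z ⟨y, hy⟩)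
        calc g * z * g⁻¹ * (g * y * g⁻¹) = g * (z * y) * g⁻¹ := by group
          _ = g * (y * z) * g⁻¹ := by rw [h]
          _ = _ := by group
      by_cases hzP : g * z * g⁻¹ ∈ P
      · exact Or.inl (hfixC _ hzP hzc)
      refine Or.inr ⟨(g * y * g⁻¹)⁻¹ * (g * z * g⁻¹), hfixC _ ?_ ?_, mul_inv_cancel_left _ _⟩
      · have := P.mul_mem (P.inv_mem (hcos _ (hgN' y hy) hyP)) (hcos _ (hgN' z z.2) hzP)
        simpa [mul_assoc] using this
      · rw [mul_assoc, hzc]; group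
    have hCfin : C.Finite := (Set.finite_Iio _).image _
    have hC : C.ncard ≤ 2 ^ n :=
      (Set.ncard_image_le (Set.finite_Iio _)).trans_eq (by rw [Set.ncard_Iio_nat])
    have h1 := Set.ncard_le_ncard hsub (hCfin.union (hCfin.image _))
    rw [Set.ncard_image_of_injective _ fun z w e => Subtype.ext (mul_left_cancel (mul_right_cancel e)),
      Set.ncard_univ, hcard] at h1
    have h2 := h1.trans ((Set.ncard_union_le _ _).trans (add_le_add hC ((Set.ncard_image_le hCfin).trans hC)))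
    have h3 : 4 ≤ 2 ^ n := le_trans (by norm_num) (Nat.pow_le_pow_right (by norm_num) hn : 2 ^ 2 ≤ 2 ^ n)
    nlinarith
  have hidx : (P.subgroupOf N).index = 2 := by
    refine Subgroup.index_eq_two_iff.mpr ⟨⟨x', hx'⟩, fun b => ?_⟩
    show Xor ((b : Ω) * x' ∈ P) ((b : Ω) ∈ P)
    by_cases hb : (b : Ω) ∈ P
    · exact Or.inr ⟨hb, fun h => hx'P (by simpa using P.mul_mem (P.inv_mem hb) h)⟩
    · refine Or.inl ⟨?_, hb⟩
      have h1 := P.mul_mem (P.inv_mem (hcos _ (N.inv_mem b.2) fun h => hb (by simpa using P.inv_mem h)))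
        (hcos _ hx' hx'P)
      simpa [mul_assoc] using h1
  have hcS : Nat.card S = 2 ^ (2 * n + 1) := by
    rw [← hNS, ← Subgroup.card_mul_index (P.subgroupOf N), hidx,
      Nat.card_congr (Subgroup.subgroupOfEquivOfLe (le_normalizerIn hPS)).toEquiv, hcard, pow_succ,
      two_mul, pow_add]
  let ι := Subgroup.inclusion hPS
  refine ⟨n, hn, hcS, ι u, ι (τ u), ⟨x', (hNS ▸ hx' : x' ∈ S)⟩, ?_, ?_, ?_, ?_, ?_⟩
  · rw [orderOf_injective ι (Subgroup.inclusion_injective hPS), hou]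
  · rw [← map_mul, ← map_mul, hcom]
  · rw [← MonoidHom.map_zpowers, ← MonoidHom.map_zpowers,
      ← Subgroup.map_inf _ _ _ (Subgroup.inclusion_injective hPS), Subgroup.map_eq_bot_iff_of_injective _
        (Subgroup.inclusion_injective hPS), eq_bot_iff]
    exact fun c hc => Subgroup.mem_bot.mpr (hdisj c hc.1 hc.2)
  · exact orderOf_two.mpr ⟨Subtype.ext hx'2, fun e => hx'P (by
      rw [show x' = 1 from congrArg Subtype.val e]; exact P.one_mem)⟩
  · exact Subtype.ext (hx'c u).symm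

/-- The possible Sylow groups. -/
theorem shape [Finite S] (hS : IsPGroup 2 S) (hF : F.IsSaturated 2) (hr2 : Cfsg.PRankAtLeast 2 2 S)
    (hr : ¬ Cfsg.PRankAtLeast 2 3 S) (hZ : F.center = ⊥) :
    (∃ m, 4 ≤ m ∧ Nonempty (S ≃* DihedralGroup m)) ∨ Cfsg.IsQuasiDihedral S ∨ Cfsg.IsWreathed S ∨
      (Cfsg.PRankLE 2 2 S ∧ ¬ Cfsg.PRankLE 2 1 S ∧ ∃ φ : MulAut S,
        ∀ s t : S, orderOf s = 2 → orderOf t = 2 → ∃ k : ℕ, (φ ^ k) s = t) := by
  haveI : Fact (Nat.Prime 2) := ⟨Nat.prime_two⟩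
  have hne : S ≠ ⊥ := by
    rintro rfl
    obtain ⟨A, -, -, hc⟩ := hr2
    have := hc.trans A.card_le_card_group
    norm_num [Subgroup.card_bot] at this
  obtain ⟨P, hfn, hP, hmax⟩ := exists_largest hS hF hr hne hZ
  obtain ⟨hcen2, a, b, ha, hb, ha1, hb1, hab, hall⟩ := hP.invols hS hr
  have hPS := hP.1.1
  haveI := finite_of_le hPS
  have hP2 : IsPGroup 2 P := hS.of_injective _ (Subgroup.inclusion_injective hPS)
  have hle2 : Cfsg.PRankLE 2 2 P := by
    intro A hA he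
    by_contra h
    push Not at h
    obtain ⟨e, hec⟩ := (hP2.to_subgroup A).exists_card_eq
    rw [hec] at h
    refine not_atLeast_of_le hr hPS ⟨A, hA, he, hec ▸ ?_⟩
    exact Nat.pow_le_pow_right (by norm_num) ((Nat.pow_lt_pow_iff_right (by norm_num)).mp h)
  have hle1 : ¬ Cfsg.PRankLE 2 1 P := by
    intro h
    let A : Subgroup P :=
      { carrier := {s | s * s = 1}
        one_mem' := one_mul 1
        mul_mem' := fun {x y} hx hy => by
          show x * y * (x * y) = 1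
          rw [mul_assoc, ← mul_assoc y, hcen2 x hx y, mul_assoc x y y, show y * y = 1 from hy, mul_one,
            show x * x = 1 from hx]
        inv_mem' := fun {x} hx => by
          show x⁻¹ * x⁻¹ = 1
          rw [← mul_inv_rev, show x * x = 1 from hx, inv_one] }
    have h1 := h A ⟨⟨fun s t => Subtype.ext (hcen2 t t.2 s)⟩⟩ fun s hs => by rw [pow_two]; exact hs
    have h2 : Nat.card ({1, a, b} : Set P) ≤ Nat.card A :=
      Nat.card_le_card_of_injective (fun v => ⟨v.1, by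
        rcases v.2 with e | e | e <;> rw [e]
        exacts [one_mul 1, ha, hb]⟩) fun v w e => Subtype.ext (congrArg (fun z : A => (z : P)) e)
    rw [Nat.card_coe_set_eq, Set.ncard_eq_three.mpr ⟨1, a, b, ha1.symm, hb1.symm, hab, rfl⟩] at h2
    omega
  obtain ⟨φ, -, ht⟩ := hP.2.2
  have hcl := classify hP2 hle2 hle1 φ ht
  rcases hPS.eq_or_lt with rfl | hlt
  · exact Or.inr (Or.inr (Or.inr ⟨hle2, hle1, φ, ht⟩))
  obtain ⟨x, hx, hxP, hx2, hcos, i, hiP, hi, hne'⟩ := exists_swap hS hF hr hfn hP hmax hlt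
  rcases hcl with ⟨n, hn, ⟨E⟩⟩ | ⟨⟨R⟩⟩
  swap
  · refine (rels_no_swap R hcen2 (conjAut P x hx.2) (q := ⟨x * x, hx2⟩) (fun v => ?_)
      (i := ⟨i, hiP⟩) (Subtype.ext hi) fun e => hne' ?_).elim
    · apply Subtype.ext
      rw [conjAut_apply, conjAut_apply]
      show _ = x * x * (v : Ω) * (x * x)⁻¹
      group
    · have h := congrArg Subtype.val e
      rwa [conjAut_apply] at h
  rcases (Nat.eq_or_lt_of_le hn) with rfl | hn2
  swap
  · exact Or.inr (Or.inr (Or.inl (wreathed_of_swap hS hPS hn2 E hx hxP hx2 hcos hiP hi hne')))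
  have hcardP : Nat.card P = 4 := by
    rw [Nat.card_congr E.toEquiv, Nat.card_congr Multiplicative.toAdd, Nat.card_prod, Nat.card_zmod]
    norm_num
  have hcom : ∀ a b : P, a * b = b * a := fun a b => E.injective (by rw [map_mul, map_mul, mul_comm])
  have hA : Nat.card (P.subgroupOf S) = 4 :=
    (Nat.card_congr (Subgroup.subgroupOfEquivOfLe hPS).toEquiv).trans hcardP
  have hC : Subgroup.centralizer ((P.subgroupOf S : Subgroup S) : Set S) = P.subgroupOf S := by
    refine le_antisymm (fun c hc => ?_) fun c hc => ?_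
    · exact hP.1.2 P (isConj_refl hPS) (mem_centralizerIn.mpr ⟨c.2, fun y hy => by
        have h : y * (c : Ω) = c * y :=
          congrArg Subtype.val (Subgroup.mem_centralizer_iff.mp hc ⟨y, hPS hy⟩ hy)
        show (c : Ω) * y * (c : Ω)⁻¹ = y
        rw [← h, mul_inv_cancel_right]⟩)
    · exact Subgroup.mem_centralizer_iff.mpr fun y hy => Subtype.ext
        (congrArg Subtype.val (hcom ⟨y, hy⟩ ⟨c, hc⟩) :)
  rcases shape_four hS hA hC (fun h => hlt.not_ge fun s hs => by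
      have : (⟨s, hs⟩ : S) ∈ P.subgroupOf S := h ▸ Subgroup.mem_top _
      exact this) (s := ⟨a, hPS a.2⟩) (t := ⟨b, hPS b.2⟩) (Subtype.ext (congrArg Subtype.val ha :))
    (Subtype.ext (congrArg Subtype.val hb :))
    (fun e => ha1 (Subtype.ext (congrArg Subtype.val e :)))
    (fun e => hb1 (Subtype.ext (congrArg Subtype.val e :)))
    (fun e => hab (Subtype.ext (congrArg Subtype.val e :))) with h | h
  exacts [Or.inl h, Or.inr (Or.inl h)]

end Cfsg.Lib.RankTwoCenter
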