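import Cfsg.Agent.Fusion.RankTwoCenter.Involutions
import Cfsg.Agent.Fusion.Sites

/-!
A largest centric subgroup with an automorphism transitive on three involutions.
-/

set_option autoImplicit false
set_option linter.style.haveILetI false

universe u

namespace Cfsg.Lib.RankTwoCenter

open Cfsg Cfsg.FusionSystem Cfsg.Lib.Fusion

variable {Ω : Type u} [Group Ω] {S : Subgroup Ω} {F : FusionSystem S}

theorem orderOf_two {G : Type*} [Group G] {x : G} : orderOf x = 2 ↔ x * x = 1 ∧ x ≠ 1 := by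
  haveI : Fact (Nat.Prime 2) := ⟨Nat.prime_two⟩
  rw [orderOf_eq_prime_iff, pow_two]

theorem not_atLeast_of_injective {G H : Type*} [Group G] [Group H] [Finite H] (f : G →* H)
    (hf : Function.Injective f) (h : ¬ Cfsg.PRankAtLeast 2 3 H) : ¬ Cfsg.PRankAtLeast 2 3 G := by
  rintro ⟨A, hA, he, hc⟩
  haveI := hA
  refine h ⟨A.map f, inferInstance, ?_, ?_⟩
  · rintro _ ⟨a, ha, rfl⟩
    rw [← map_pow, he a ha, map_one]
  · rwa [Subgroup.card_map_of_injective hf]

theorem not_atLeast_of_le [Finite S] (hr : ¬ Cfsg.PRankAtLeast 2 3 S) {Q : Subgroup Ω} (hQ : Q ≤ S) :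
    ¬ Cfsg.PRankAtLeast 2 3 Q :=
  not_atLeast_of_injective _ (Subgroup.inclusion_injective hQ) hr

/-- A centric subgroup whose automizer is transitive on at least two involutions. -/
def Trans (F : FusionSystem S) (Q : Subgroup Ω) : Prop :=
  F.IsCentric Q ∧ (∃ s t : Q, orderOf s = 2 ∧ orderOf t = 2 ∧ s ≠ t) ∧
    ∃ φ ∈ F.autGroup Q, ∀ s t : Q, orderOf s = 2 → orderOf t = 2 → ∃ k : ℕ, (φ ^ k) s = t

theorem exists_central_involution {G : Type*} [Group G] [Finite G] [Nontrivial G] (h : IsPGroup 2 G) :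
    ∃ z : G, orderOf z = 2 ∧ ∀ x, x * z = z * x := by
  haveI : Fact (Nat.Prime 2) := ⟨Nat.prime_two⟩
  haveI := h.center_nontrivial
  obtain ⟨n, hn, hc⟩ := (h.to_subgroup (Subgroup.center G)).nontrivial_iff_card.mp inferInstance
  obtain ⟨z, hz⟩ := exists_prime_orderOf_dvd_card' (G := Subgroup.center G) 2
    (hc ▸ dvd_pow_self 2 hn.ne')
  exact ⟨z, (orderOf_injective (Subgroup.center G).subtype (Subgroup.subtype_injective _) z).trans hz,
    fun x => Subgroup.mem_center_iff.mp z.2 x⟩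

/-- The three involutions. -/
theorem Trans.invols [Finite S] (hS : IsPGroup 2 S) (hr : ¬ Cfsg.PRankAtLeast 2 3 S) {Q : Subgroup Ω}
    (h : Trans F Q) :
    (∀ s : Q, s * s = 1 → ∀ x : Q, x * s = s * x) ∧
      ∃ a b : Q, a * a = 1 ∧ b * b = 1 ∧ a ≠ 1 ∧ b ≠ 1 ∧ a ≠ b ∧
        ∀ s : Q, s * s = 1 → s = 1 ∨ s = a ∨ s = b ∨ s = a * b := by
  obtain ⟨hcen, ⟨a, b, ha, hb, hne⟩, φ, -, ht⟩ := h
  haveI := finite_of_le hcen.1
  haveI : Nontrivial Q := ⟨⟨a, b, hne⟩⟩
  obtain ⟨z, hz, hzc⟩ := exists_central_involution (hS.of_injective _ (Subgroup.inclusion_injective hcen.1))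
  have hc : ∀ s : Q, s * s = 1 → ∀ x : Q, x * s = s * x := by
    intro s hs x
    by_cases hs1 : s = 1
    · rw [hs1, mul_one, one_mul]
    obtain ⟨k, rfl⟩ := ht z s hz (orderOf_two.mpr ⟨hs, hs1⟩)
    obtain ⟨y, rfl⟩ := (φ ^ k).surjective x
    rw [← map_mul, ← map_mul, hzc]
  obtain ⟨ha2, ha1⟩ := orderOf_two.mp ha
  obtain ⟨hb2, hb1⟩ := orderOf_two.mp hb
  exact ⟨hc, a, b, ha2, hb2, ha1, hb1, hne, fun s hs =>
    mem_four (not_atLeast_of_le hr hcen.1) ha2 hb2 hs (hc b hb2 a) (hc s hs a) (hc s hs b) ha1 hb1 hne⟩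

theorem pow_apply_mem {G : Type*} [Group G] (φ : MulAut G) {a b : G} (h1 : φ a = b) (h2 : φ b = a * b)
    (h3 : φ (a * b) = a) {s t : G} (hs : s = a ∨ s = b ∨ s = a * b) (ht : t = a ∨ t = b ∨ t = a * b) :
    ∃ k : ℕ, (φ ^ k) s = t := by
  have hsa : ∃ j : ℕ, (φ ^ j) s = a := by
    rcases hs with rfl | rfl | rfl
    exacts [⟨0, rfl⟩, ⟨2, by rw [pow_two, MulAut.mul_apply, h2, h3]⟩, ⟨1, by rw [pow_one, h3]⟩]
  have hat : ∃ j : ℕ, (φ ^ j) a = t := by
    rcases ht with rfl | rfl | rfl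
    exacts [⟨0, rfl⟩, ⟨1, by rw [pow_one, h1]⟩, ⟨2, by rw [pow_two, MulAut.mul_apply, h1, h2]⟩]
  obtain ⟨i, hi⟩ := hsa
  obtain ⟨j, hj⟩ := hat
  exact ⟨j + i, by rw [pow_add, MulAut.mul_apply, hi, hj]⟩

/-- An automorphism moving a central involution. -/
theorem trans_of_move [Finite S] (hS : IsPGroup 2 S) (hF : F.IsSaturated 2)
    (hr : ¬ Cfsg.PRankAtLeast 2 3 S) {Q : Subgroup Ω} (hfn : F.IsFullyNormalized Q) (hcen : F.IsCentric Q)
    {z : Ω} (hzS : z ∈ S) (hzc : ∀ s ∈ S, s * z = z * s) (hz2 : orderOf z = 2) {α : MulAut Q}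
    (hα : α ∈ F.autGroup Q) {hzQ : z ∈ Q} (hne : α ⟨z, hzQ⟩ ≠ ⟨z, hzQ⟩) : Trans F Q := by
  haveI : Fact (Nat.Prime 2) := ⟨Nat.prime_two⟩
  have hQ := hcen.1
  haveI := finite_of_le hQ
  set c : Q := ⟨z, hzQ⟩ with hcdef
  obtain ⟨hz22, hz1⟩ := orderOf_two.mp hz2
  have hc2 : c * c = 1 := Subtype.ext hz22
  have hc1 : c ≠ 1 := fun e => hz1 (congrArg Subtype.val e)
  have hcc : ∀ x : Q, x * c = c * x := fun x => Subtype.ext (hzc x (hQ x.2))
  have him : ∀ (β : MulAut Q) (x : Q), x * β c = β c * x := fun β x => by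
    obtain ⟨y, rfl⟩ := β.surjective x
    rw [← map_mul, ← map_mul, hcc]
  have him2 : ∀ β : MulAut Q, β c * β c = 1 ∧ β c ≠ 1 := fun β =>
    ⟨by rw [← map_mul, hc2, map_one], fun e => hc1 (β.injective (e.trans (map_one β).symm))⟩
  set w := α c with hwdef
  obtain ⟨hw2, hw1⟩ := him2 α
  have hall : ∀ s : Q, s * s = 1 → s = 1 ∨ s = c ∨ s = w ∨ s = c * w := fun s hs =>
    mem_four (not_atLeast_of_le hr hQ) hc2 hw2 hs (him α c) (hcc s).symm (him α s).symm hc1 hw1 hne.symm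
  have hu2 : c * w * (c * w) = 1 := by
    rw [← mul_assoc, hcc (c * w), ← mul_assoc, hc2, one_mul, hw2]
  have hcw1 : c * w ≠ 1 := fun e => hne (inv_eq_of_mul_eq_one_right e ▸ inv_eq_of_mul_eq_one_right hc2)
  have hinv : ∀ s : Q, orderOf s = 2 → s = c ∨ s = w ∨ s = c * w := fun s hs =>
    (hall s (orderOf_two.mp hs).1).resolve_left (orderOf_two.mp hs).2
  have him3 : ∀ β : MulAut Q, β c = c ∨ β c = w ∨ β c = c * w := fun β =>
    hinv _ (orderOf_two.mpr (him2 β))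
  obtain ⟨β, hβ, hβu⟩ : ∃ β ∈ F.autGroup Q, β c = c * w := by
    by_contra hno
    push Not at hno
    have horb : MulAction.orbit (F.autGroup Q) c = ({c, w} : Set Q) := by
      ext x
      constructor
      · rintro ⟨⟨γ, hγ⟩, rfl⟩
        show γ c ∈ ({c, w} : Set Q)
        rcases him3 γ with h | h | h
        exacts [Or.inl h, Or.inr h, absurd h (hno γ hγ)]
      · rintro (rfl | rfl)
        exacts [MulAction.mem_orbit_self _, ⟨⟨α, hα⟩, rfl⟩]
    have hidx : (MulAction.stabilizer (F.autGroup Q) c).index = 2 := by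
      rw [MulAction.index_stabilizer, horb, Set.ncard_pair hne.symm]
    have hle : (autInducedBy S Q).subgroupOf (F.autGroup Q) ≤ MulAction.stabilizer (F.autGroup Q) c := by
      intro γ hγ
      obtain ⟨g, hg, e⟩ := mem_autInducedBy.mp hγ
      refine MulAction.mem_stabilizer_iff.mpr (Subtype.ext ?_)
      refine (e c).trans ?_
      show g * z * g⁻¹ = z
      rw [hzc g hg, mul_inv_cancel_right]
    exact (isFullyAutomized_iff hS).mp (fullyNormalized_props hS hF hfn).2.1 |>.2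
      (hidx ▸ Subgroup.index_dvd_of_le hle)
  have hcuw : c * (c * w) = w := by rw [← mul_assoc, hc2, one_mul]
  have hwu : w * (c * w) = c := by rw [← mul_assoc, ← him α c, mul_assoc, hw2, mul_one]
  have hab : ∃ φ ∈ F.autGroup Q, ∃ a b : Q, φ a = b ∧ φ b = a * b ∧ φ (a * b) = a ∧
      (∀ s, s = c ∨ s = w ∨ s = c * w → s = a ∨ s = b ∨ s = a * b) := by
    have hαw : α w = c ∨ α w = c * w := by
      rcases hinv (α w) (orderOf_two.mpr ⟨by rw [← map_mul, hw2, map_one],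
        fun e => hw1 (α.injective (e.trans (map_one α).symm))⟩) with h | h | h
      exacts [Or.inl h, absurd (α.injective (h.trans hwdef)) hne, Or.inr h]
    rcases hαw with hαw | hαw
    swap
    · exact ⟨α, hα, c, w, rfl, hαw, by rw [map_mul, ← hwdef, hαw, hwu], fun s hs => hs⟩
    have hαu : α (c * w) = c * w := by rw [map_mul, ← hwdef, hαw, him α c]
    have hβu' : β (c * w) = c ∨ β (c * w) = w := by
      rcases hinv (β (c * w)) (orderOf_two.mpr ⟨by rw [← map_mul, hu2, map_one],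
        fun e => hcw1 (β.injective (e.trans (map_one β).symm))⟩) with h | h | h
      · exact Or.inl h
      · exact Or.inr h
      · exact absurd (β.injective (h.trans hβu.symm)) fun e => hw1 (mul_eq_left.mp e)
    rcases hβu' with h | h
    swap
    · refine ⟨β, hβ, c, c * w, hβu, by rw [hcuw, h], ?_, fun s hs => ?_⟩
      · rw [map_mul, hβu, h, mul_assoc, hw2, mul_one]
      · rw [hcuw]
        rcases hs with h | h | h
        exacts [Or.inl h, Or.inr (Or.inr h), Or.inr (Or.inl h)]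
    refine ⟨α * β, Subgroup.mul_mem _ hα hβ, c, c * w, ?_, ?_, ?_, fun s hs => ?_⟩
    · rw [MulAut.mul_apply, hβu, hαu]
    · rw [MulAut.mul_apply, h, hcuw]
    · rw [MulAut.mul_apply, map_mul, hβu, h, map_mul, hαu, ← hwdef, mul_assoc, hw2, mul_one]
    · rw [hcuw]
      rcases hs with h | h | h
      exacts [Or.inl h, Or.inr (Or.inr h), Or.inr (Or.inl h)]
  obtain ⟨φ, hφ, a, b, h1, h2, h3, hs⟩ := hab
  exact ⟨hcen, ⟨c, w, orderOf_two.mpr ⟨hc2, hc1⟩, orderOf_two.mpr ⟨hw2, hw1⟩, hne.symm⟩, φ, hφ,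
    fun s t h h' => pow_apply_mem φ h1 h2 h3 (hs s (hinv s h)) (hs t (hinv t h'))⟩

theorem fullyNormalized_top [Finite S] : F.IsFullyNormalized S := by
  refine ⟨le_rfl, fun Q hQ => ?_⟩
  obtain ⟨-, hQS⟩ := isConj_le hQ
  rw [Subgroup.eq_of_le_of_card_ge hQS (isConj_card hQ).ge]

theorem centric_top [Finite S] : F.IsCentric S := by
  refine ⟨le_rfl, fun Q hQ => ?_⟩
  obtain ⟨-, hQS⟩ := isConj_le hQ
  rw [Subgroup.eq_of_le_of_card_ge hQS (isConj_card hQ).ge]
  exact inf_le_left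

theorem exists_trans [Finite S] (hS : IsPGroup 2 S) (hF : F.IsSaturated 2)
    (hr : ¬ Cfsg.PRankAtLeast 2 3 S) (hne : S ≠ ⊥) (hZ : F.center = ⊥) : ∃ Q, Trans F Q := by
  haveI : Fact (Nat.Prime 2) := ⟨Nat.prime_two⟩
  by_contra hno
  push Not at hno
  haveI := Subgroup.nontrivial_iff_ne_bot S |>.mpr hne
  obtain ⟨⟨z, hzS⟩, hz, hzc'⟩ := exists_central_involution hS
  have hzc : ∀ s ∈ S, s * z = z * s := fun s hs => congrArg Subtype.val (hzc' ⟨s, hs⟩)
  have hz2 : orderOf z = 2 := by rwa [← Subgroup.orderOf_coe] at hz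
  have hfix : ∀ (Q : Subgroup Ω), F.IsFullyNormalized Q → F.IsCentric Q → ∀ α ∈ F.autGroup Q,
      z ∈ Q ∧ autFun α z = z := by
    intro Q hfn hcen α hα
    have hzQ : z ∈ Q := hcen.2 Q (isConj_refl hcen.1)
      (mem_centralizerIn.mpr ⟨hzS, fun x hx => by rw [← hzc x (hcen.1 hx), mul_inv_cancel_right]⟩)
    refine ⟨hzQ, ?_⟩
    by_contra h
    exact hno Q (trans_of_move hS hF hr hfn hcen hzS hzc hz2 hα (hzQ := hzQ) fun e =>
      h (by rw [autFun_apply_mem α hzQ, e]))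
  have hmem : z ∈ F.center := by
    refine mem_center_of_fixesElt hzS fun P f hf => alperin_induction hS hF
      (isMapClass_fixesElt hzS hzc) (fun f hf => ?_) (fun Q _ hfn hcen _ α hα => ?_) hf
    · obtain ⟨α, hα, e⟩ := hf.exists_aut (Subgroup.eq_of_le_of_card_ge hf.img_le hf.card_img.ge)
      obtain ⟨hzQ, he⟩ := hfix S fullyNormalized_top centric_top α hα
      exact ⟨f, hf.mono (sup_le le_rfl (Subgroup.zpowers_le.mpr hzQ)), fun _ _ => rfl,
        by rw [← e z hzQ, he]⟩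
    · obtain ⟨hzQ, he⟩ := hfix Q hfn hcen α hα
      exact ⟨autFun α, ((isMap_autFun hcen.1).mpr hα).mono (sup_le le_rfl (Subgroup.zpowers_le.mpr hzQ)),
        fun _ _ => rfl, he⟩
  rw [hZ, Subgroup.mem_bot] at hmem
  exact (orderOf_two.mp hz2).2 hmem

theorem centric_of_le {P N : Subgroup Ω} (hP : F.IsCentric P) (hPN : P ≤ N) (hN : N ≤ S) :
    F.IsCentric N := by
  refine ⟨hN, fun R hR c hc => ?_⟩
  obtain ⟨f, hf, hi⟩ := isConj_iff.mp hR
  have h1 : img P f ≤ R := hi ▸ img_mono hPN f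
  refine h1 (hP.2 _ (isConj_iff.mpr ⟨f, hf.mono hPN, rfl⟩) ?_)
  exact ⟨hc.1, Subgroup.centralizer_le h1 hc.2⟩

theorem Trans.map {P R : Subgroup Ω} (h : Trans F P) {f : Ω → Ω} (hf : IsMap F P f) (hi : img P f = R) :
    Trans F R := by
  obtain ⟨⟨hP, hC⟩, ⟨a, b, ha, hb, hne⟩, φ, hφ, ht⟩ := h
  let e : P ≃* R := hf.equiv hi
  refine ⟨⟨hi ▸ hf.img_le, fun Q hQ => hC Q (isConj_trans (isConj_iff.mpr ⟨f, hf, hi⟩) hQ)⟩,
    ⟨e a, e b, ?_, ?_, fun h => hne (e.injective h)⟩, MulAut.congr e φ, congr_mem_autGroup hf hi hφ, ?_⟩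
  · rw [← ha]; exact orderOf_injective e.toMonoidHom e.injective a
  · rw [← hb]; exact orderOf_injective e.toMonoidHom e.injective b
  intro s t hs ht'
  obtain ⟨s', rfl⟩ := e.surjective s
  obtain ⟨t', rfl⟩ := e.surjective t
  obtain ⟨k, hk⟩ := ht s' t' ((orderOf_injective e.toMonoidHom e.injective s').symm.trans hs)
    ((orderOf_injective e.toMonoidHom e.injective t').symm.trans ht')
  refine ⟨k, ?_⟩
  rw [← map_pow]
  show e ((φ ^ k) (e.symm (e s'))) = e t'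
  rw [e.symm_apply_apply, hk]

theorem exists_largest [Finite S] (hS : IsPGroup 2 S) (hF : F.IsSaturated 2)
    (hr : ¬ Cfsg.PRankAtLeast 2 3 S) (hne : S ≠ ⊥) (hZ : F.center = ⊥) :
    ∃ P, F.IsFullyNormalized P ∧ Trans F P ∧ ∀ Q, Trans F Q → Nat.card Q ≤ Nat.card P := by
  obtain ⟨Q, hQ, hmax⟩ := Set.exists_max_image {Q : Subgroup Ω | Trans F Q} (fun Q => Nat.card Q)
    (finite_subgroups_le.subset fun Q hQ => hQ.1.1) (exists_trans hS hF hr hne hZ)
  obtain ⟨P, hQP, hP⟩ := exists_fullyNormalized (F := F) hQ.1.1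
  obtain ⟨f, hf, hi⟩ := isConj_iff.mp hQP
  exact ⟨P, hP, hQ.map hf hi, fun R hR => (isConj_card hQP).symm ▸ hmax R hR⟩

/-- Elements of the normalizer fixing every involution lie in the largest subgroup. -/
theorem mem_of_fix [Finite S] (hS : IsPGroup 2 S) (hF : F.IsSaturated 2)
    (hr : ¬ Cfsg.PRankAtLeast 2 3 S) {P : Subgroup Ω} (hfn : F.IsFullyNormalized P) (hP : Trans F P)
    (hmax : ∀ Q, Trans F Q → Nat.card Q ≤ Nat.card P) {g : Ω} (hg : g ∈ normalizerIn S P)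
    (hfix : ∀ x ∈ P, x * x = 1 → g * x * g⁻¹ = x) : g ∈ P := by
  haveI : Fact (Nat.Prime 2) := ⟨Nat.prime_two⟩
  obtain ⟨hcen2, a, b, ha, hb, ha1, hb1, hne, hall⟩ := hP.invols hS hr
  obtain ⟨hcen, -, φ, hφ, ht⟩ := hP
  have hPS := hcen.1
  haveI := finite_of_le hPS
  obtain ⟨-, hfa, hrec⟩ := fullyNormalized_props hS hF hfn
  let K : Subgroup (MulAut P) :=
    { carrier := {α | ∀ x : P, x * x = 1 → α x = x}
      one_mem' := fun x _ => rfl
      mul_mem' := fun {α β} hα hβ x hx => by rw [MulAut.mul_apply, hβ x hx, hα x hx]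
      inv_mem' := fun {α} hα x hx => by
        conv_lhs => rw [← hα x hx]
        exact α.symm_apply_apply x }
  have hKn : ∀ α ∈ F.autGroup P, ∀ γ ∈ K ⊓ F.autGroup P, α * γ * α⁻¹ ∈ K ⊓ F.autGroup P :=
    fun α hα γ hγ => ⟨fun x hx => by
      have h : γ (α⁻¹ x) = α⁻¹ x := hγ.1 _ (by rw [← map_mul, hx, map_one])
      rw [MulAut.mul_apply, MulAut.mul_apply, h]
      exact α.apply_symm_apply x,
      Subgroup.mul_mem _ (Subgroup.mul_mem _ hα hγ.2) (Subgroup.inv_mem _ hα)⟩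
  set R := K ⊓ F.autGroup P ⊓ autInducedBy S P with hR
  have hRp : IsPGroup 2 R :=
    (isPGroup_autInducedBy hS P).of_injective _ (Subgroup.inclusion_injective inf_le_right)
  have hmaxR : IsMaxPIn 2 R (K ⊓ F.autGroup P) := by
    refine ⟨inf_le_left, hRp, fun U hU hUp hle => ?_⟩
    obtain ⟨χ, hχ, hχU⟩ := exists_conj_into_autS hfa hUp (hU.trans inf_le_right)
    have h1 : U.map (MulAut.conj χ).toMonoidHom ≤ R :=
      map_conj_le fun u hu => ⟨hKn χ hχ u (hU hu), hχU u hu⟩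
    have h2 := Subgroup.card_le_of_le h1
    rw [card_map_conj] at h2
    exact (Subgroup.eq_of_le_of_card_ge hle h2).symm
  obtain ⟨κ, hκ, hκU⟩ := hmaxR.exists_conj_le (U := R.map (MulAut.conj φ).toMonoidHom)
    (map_conj_le fun γ hγ => hKn φ hφ γ hγ.1) (hRp.map _)
  have hψmem : κ * φ ∈ F.autGroup P := Subgroup.mul_mem _ hκ.2 hφ
  have hψR : ∀ γ ∈ R, κ * φ * γ * (κ * φ)⁻¹ ∈ R := fun γ hγ => by
    have := hκU (φ * γ * φ⁻¹) ⟨γ, hγ, rfl⟩
    simpa [mul_assoc] using this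
  have hact : ∀ x : P, x * x = 1 → (κ * φ) x = φ x := fun x hx => by
    rw [MulAut.mul_apply]
    exact hκ.1 _ (by rw [← map_mul, hx, map_one])
  let N : Subgroup Ω :=
    { carrier := {y | y ∈ normalizerIn S P ∧ ∀ x ∈ P, x * x = 1 → y * x * y⁻¹ = x}
      one_mem' := ⟨one_mem _, fun x _ _ => by simp⟩
      mul_mem' := fun {y z} hy hz => ⟨mul_mem hy.1 hz.1, fun x hx hx2 => by
        calc y * z * x * (y * z)⁻¹ = y * (z * x * z⁻¹) * y⁻¹ := by group
          _ = x := by rw [hz.2 x hx hx2, hy.2 x hx hx2]⟩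
      inv_mem' := fun {y} hy => ⟨inv_mem hy.1, fun x hx hx2 => by
        calc y⁻¹ * x * y⁻¹⁻¹ = y⁻¹ * (y * x * y⁻¹) * y := by rw [hy.2 x hx hx2]; group
          _ = x := by group⟩ }
  have hNS : N ≤ S := fun y hy => hy.1.1
  haveI := finite_of_le hNS
  have hPN : P ≤ N := fun y hy => ⟨le_normalizerIn hPS hy, fun x hx hx2 => by
    have h : y * x = x * y := congrArg Subtype.val (hcen2 ⟨x, hx⟩ (Subtype.ext hx2) ⟨y, hy⟩)
    rw [h, mul_inv_cancel_right]⟩
  have hm : IsMap F P (autFun (κ * φ)) := (isMap_autFun hPS).mpr hψmem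
  have hN : ∀ y ∈ N, ∃ h ∈ N, ∀ x ∈ P,
      autFun (κ * φ) (y * x * y⁻¹) = h * autFun (κ * φ) x * h⁻¹ := by
    intro y hy
    have hγ : conjAut P y hy.1.2 ∈ R := ⟨⟨fun x hx => Subtype.ext (by
      rw [conjAut_apply]; exact hy.2 x x.2 (congrArg Subtype.val hx)),
        autInducedBy_le hPS (conjAut_mem_autInducedBy hy.1.2 hy.1.1)⟩,
      conjAut_mem_autInducedBy hy.1.2 hy.1.1⟩
    have hc := hψR _ hγ
    obtain ⟨h, hh, eh⟩ := mem_autInducedBy.mp hc.2
    refine ⟨h, ⟨⟨hh, mem_normalizer_of_mem_autInducedBy eh⟩, fun x hx hx2 => ?_⟩, fun x hx => ?_⟩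
    · have := eh ⟨x, hx⟩
      rw [hc.1.1 ⟨x, hx⟩ (Subtype.ext hx2)] at this
      exact this.symm
    · have hyx : y * x * y⁻¹ ∈ P := conj_mem_of_mem_normalizer hy.1.2 hx
      rw [autFun_apply_mem _ hyx, autFun_apply_mem _ hx, ← eh]
      have h' : (κ * φ)⁻¹ ((κ * φ) ⟨x, hx⟩) = ⟨x, hx⟩ := MulEquiv.symm_apply_apply _ _
      show _ = (((κ * φ) (conjAut P y hy.1.2 ((κ * φ)⁻¹ ((κ * φ) ⟨x, hx⟩))) : P) : Ω)
      rw [h']
      exact congrArg (fun v : P => (((κ * φ) v : P) : Ω))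
        (Subtype.ext (conjAut_apply hy.1.2 ⟨x, hx⟩).symm)
  have hNext : N ≤ extSub S P (autFun (κ * φ)) := fun y hy => by
    obtain ⟨h, hh, e⟩ := hN y hy
    exact ⟨hy.1.1, hy.1.2, h, hh.1.1, e⟩
  obtain ⟨f, hf, hag⟩ := receptive_extend hrec hm (img_autFun _)
  have hfN : IsMap F N f := hf.mono hNext
  have hfim : ∀ y ∈ N, f y ∈ N := by
    intro y hy
    obtain ⟨h, hh, e⟩ := hN y hy
    have hc : h⁻¹ * f y ∈ centralizerIn S P := mem_centralizerIn.mpr
      ⟨S.mul_mem (S.inv_mem hh.1.1) (hfN.mem_S hy), fun x hx => by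
        obtain ⟨x', hx', rfl⟩ : ∃ x' ∈ P, autFun (κ * φ) x' = x :=
          hm.mem_img.mp (by rw [img_autFun]; exact hx)
        have hyx : y * x' * y⁻¹ ∈ P := conj_mem_of_mem_normalizer hy.1.2 hx'
        have h1 := hag _ hyx
        rw [hfN.map_conj hy (hPN hx'), hag x' hx', e x' hx'] at h1
        calc h⁻¹ * f y * autFun (κ * φ) x' * (h⁻¹ * f y)⁻¹
            = h⁻¹ * (f y * autFun (κ * φ) x' * (f y)⁻¹) * h := by group
          _ = autFun (κ * φ) x' := by rw [h1]; group⟩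
    have hmem : h⁻¹ * f y ∈ N := hPN (hcen.2 P (isConj_refl hPS) hc)
    simpa using mul_mem hh hmem
  obtain ⟨ψ, hψ, hψe⟩ := hfN.exists_aut
    (Subgroup.eq_of_le_of_card_ge (IsMap.img_le_iff.mpr hfim) hfN.card_img.ge)
  have hinvN : ∀ y ∈ N, y * y = 1 → y ∈ P := by
    intro y hy hy2
    have hab : (a : Ω) * b = b * a := congrArg Subtype.val (hcen2 b hb a)
    have hcomm : ∀ x : P, x * x = 1 → (x : Ω) * y = y * x := fun x hx =>
      (mul_inv_eq_iff_eq_mul.mp (hy.2 x x.2 (congrArg Subtype.val hx))).symm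
    have := mem_four hr (a := (⟨a, hPS a.2⟩ : S)) (b := ⟨b, hPS b.2⟩) (c := ⟨y, hNS hy⟩)
      (Subtype.ext (congrArg Subtype.val ha :)) (Subtype.ext (congrArg Subtype.val hb :))
      (Subtype.ext hy2) (Subtype.ext hab) (Subtype.ext (hcomm a ha)) (Subtype.ext (hcomm b hb))
      (fun e => ha1 (Subtype.ext (congrArg Subtype.val e :)))
      (fun e => hb1 (Subtype.ext (congrArg Subtype.val e :)))
      (fun e => hne (Subtype.ext (congrArg Subtype.val e :)))
    rcases this with e | e | e | e <;> rw [show y = _ from congrArg Subtype.val e]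
    exacts [P.one_mem, a.2, b.2, (a * b).2]
  have hψs : ∀ (k : ℕ) (s : P), s * s = 1 →
      (ψ ^ k) ⟨s, hPN s.2⟩ = ⟨(φ ^ k) s, hPN ((φ ^ k) s).2⟩ := by
    intro k s hs
    induction k with
    | zero => rfl
    | succ k ih =>
      rw [pow_succ', MulAut.mul_apply, ih]
      apply Subtype.ext
      have hs' : (φ ^ k) s * (φ ^ k) s = 1 := by rw [← map_mul, hs, map_one]
      show ((ψ ⟨((φ ^ k) s : P), hPN ((φ ^ k) s).2⟩ : N) : Ω) = _
      rw [← autFun_apply ψ, hψe _ (hPN ((φ ^ k) s).2), hag _ ((φ ^ k) s).2, autFun_apply, hact _ hs',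
        pow_succ']
      rfl
  have hTN : Trans F N := by
    refine ⟨centric_of_le hcen hPN hNS, ⟨⟨a, hPN a.2⟩, ⟨b, hPN b.2⟩, ?_, ?_, ?_⟩, ψ, hψ, ?_⟩
    · exact orderOf_two.mpr ⟨Subtype.ext (congrArg Subtype.val ha :),
        fun e => ha1 (Subtype.ext (congrArg Subtype.val e :))⟩
    · exact orderOf_two.mpr ⟨Subtype.ext (congrArg Subtype.val hb :),
        fun e => hb1 (Subtype.ext (congrArg Subtype.val e :))⟩
    · exact fun e => hne (Subtype.ext (congrArg Subtype.val e :))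
    intro s t hs ht'
    obtain ⟨hs2, hs1⟩ := orderOf_two.mp hs
    obtain ⟨ht2, ht1⟩ := orderOf_two.mp ht'
    have hsP := hinvN s s.2 (congrArg Subtype.val hs2)
    have htP := hinvN t t.2 (congrArg Subtype.val ht2)
    obtain ⟨k, hk⟩ := ht ⟨s, hsP⟩ ⟨t, htP⟩
      (orderOf_two.mpr ⟨Subtype.ext (congrArg Subtype.val hs2 :),
        fun e => hs1 (Subtype.ext (congrArg Subtype.val e :))⟩)
      (orderOf_two.mpr ⟨Subtype.ext (congrArg Subtype.val ht2 :),
        fun e => ht1 (Subtype.ext (congrArg Subtype.val e :))⟩)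
    refine ⟨k, Subtype.ext ?_⟩
    have := hψs k ⟨s, hsP⟩ (Subtype.ext (congrArg Subtype.val hs2 :))
    rw [hk] at this
    exact congrArg Subtype.val this
  rw [Subgroup.eq_of_le_of_card_ge hPN (hmax N hTN)]
  exact ⟨hg, hfix⟩

/-- The action of the normalizer on the involutions. -/
def permInvol (G : Type*) [Group G] : MulAut G →* Equiv.Perm {x : G // x * x = 1 ∧ x ≠ 1} where
  toFun α := α.toEquiv.subtypeEquiv fun x => by
    show _ ↔ α x * α x = 1 ∧ α x ≠ 1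
    rw [← map_mul, ne_eq, ne_eq, MulEquiv.map_eq_one_iff, MulEquiv.map_eq_one_iff]
  map_one' := by ext x; rfl
  map_mul' α β := by ext x; rfl

theorem permInvol_eq_one {G : Type*} [Group G] {α : MulAut G} :
    permInvol G α = 1 ↔ ∀ x : G, x * x = 1 → α x = x := by
  constructor
  · intro h x hx
    by_cases hx1 : x = 1
    · rw [hx1, map_one]
    exact congrArg Subtype.val (Equiv.ext_iff.mp h ⟨x, hx, hx1⟩)
  · exact fun h => Equiv.ext fun x => Subtype.ext (h x x.2.1)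

/-- A proper largest subgroup has index two in its normalizer. -/
theorem exists_swap [Finite S] (hS : IsPGroup 2 S) (hF : F.IsSaturated 2)
    (hr : ¬ Cfsg.PRankAtLeast 2 3 S) {P : Subgroup Ω} (hfn : F.IsFullyNormalized P) (hP : Trans F P)
    (hmax : ∀ Q, Trans F Q → Nat.card Q ≤ Nat.card P) (hlt : P < S) :
    ∃ x ∈ normalizerIn S P, x ∉ P ∧ x * x ∈ P ∧ (∀ g ∈ normalizerIn S P, g ∉ P → x * g ∈ P) ∧
      ∃ i ∈ P, i * i = 1 ∧ x * i * x⁻¹ ≠ i := by
  haveI : Fact (Nat.Prime 2) := ⟨Nat.prime_two⟩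
  obtain ⟨-, a, b, ha, hb, ha1, hb1, hne, hall⟩ := hP.invols hS hr
  haveI := finite_of_le hP.1.1
  obtain ⟨hcen2, -⟩ := hP.invols hS hr
  let I := {x : P // x * x = 1 ∧ x ≠ 1}
  let θ : normalizerIn S P →* Equiv.Perm I := (permInvol P).comp (normalizerInHom S P)
  have hker : ∀ g, θ g = 1 ↔ (g : Ω) ∈ P := by
    intro g
    show permInvol P (normalizerInHom S P g) = 1 ↔ _
    rw [permInvol_eq_one]
    constructor
    · intro h
      refine mem_of_fix hS hF hr hfn hP hmax g.2 fun x hx hx2 => ?_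
      have h1 := congrArg Subtype.val (h ⟨x, hx⟩ (Subtype.ext hx2))
      rwa [normalizerInHom_apply] at h1
    · intro h x hx
      apply Subtype.ext
      rw [normalizerInHom_apply]
      have h1 : (g : Ω) * x = x * g := congrArg Subtype.val (hcen2 x hx ⟨g, h⟩)
      rw [h1, mul_inv_cancel_right]
  have hI : Nat.card I ≤ 3 := by
    have hsub : ∀ x : I, x.1 ∈ ({a, b, a * b} : Set P) := fun x =>
      (hall x.1 x.2.1).resolve_left x.2.2
    calc Nat.card I ≤ Nat.card ({a, b, a * b} : Set P) :=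
          Nat.card_le_card_of_injective (fun x => ⟨x.1, hsub x⟩)
            fun x y e => Subtype.ext (congrArg (fun z : ({a, b, a * b} : Set P) => z.1) e)
      _ ≤ 3 := by
          rw [Nat.card_coe_set_eq]
          refine (Set.ncard_insert_le _ _).trans ?_
          have := Set.ncard_insert_le b ({a * b} : Set P)
          rw [Set.ncard_singleton] at this
          omega
  obtain ⟨x, hxN, hxP⟩ := SetLike.exists_of_lt (lt_normalizerIn hS hlt)
  have hidx : θ.ker.index = 2 := by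
    obtain ⟨e, he⟩ := ((hS.of_injective _ (Subgroup.inclusion_injective
      (inf_le_left : normalizerIn S P ≤ S))).of_surjective θ.rangeRestrict
        θ.rangeRestrict_surjective).exists_card_eq
    haveI : Finite (normalizerIn S P) := finite_of_le inf_le_left
    have hd : 2 ^ e ∣ (Nat.card I).factorial := by
      rw [← he, ← Nat.card_perm]
      exact Subgroup.card_subgroup_dvd_card θ.range
    have h6 : 2 ^ e ∣ 6 := hd.trans (Nat.factorial_dvd_factorial hI)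
    have he1 : e ≤ 1 := by
      by_contra h
      have : 4 ∣ 6 := (pow_dvd_pow 2 (by omega : 2 ≤ e)).trans h6
      norm_num at this
    rw [Subgroup.index_ker, he]
    interval_cases e
    · exfalso
      rw [pow_zero, Subgroup.card_eq_one] at he
      refine hxP ((hker ⟨x, hxN⟩).mp ?_)
      have : θ ⟨x, hxN⟩ ∈ θ.range := ⟨_, rfl⟩
      rwa [he, Subgroup.mem_bot] at this
    · rfl
  have hmem : ∀ u v : normalizerIn S P, ((u : Ω) * v ∈ P ↔ ((u : Ω) ∈ P ↔ (v : Ω) ∈ P)) := fun u v => by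
    rw [← hker u, ← hker v, show (u : Ω) * v = ((u * v : normalizerIn S P) : Ω) from rfl, ← hker,
      ← MonoidHom.mem_ker, ← MonoidHom.mem_ker, ← MonoidHom.mem_ker]
    exact Subgroup.mul_mem_iff_of_index_two hidx
  refine ⟨x, hxN, hxP, (hmem ⟨x, hxN⟩ ⟨x, hxN⟩).mpr Iff.rfl,
    fun g hg hgP => (hmem ⟨x, hxN⟩ ⟨g, hg⟩).mpr (iff_of_false hxP hgP), ?_⟩
  by_contra h
  push Not at h
  exact hxP (mem_of_fix hS hF hr hfn hP hmax hxN h)

end Cfsg.Lib.RankTwoCenter
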