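import Cfsg.Agent.Fusion.RankTwoCenter.Real
import Cfsg.Agent.Fusion.SimpleRealization
import Cfsg.Agent.Fusion.NormalCentralizer.Basic
import Cfsg.Agent.Fusion.Hyperfocal
import Cfsg.Agent.S5093

/-!
Simple systems: trivial centre, no stable homomorphism.
-/

set_option autoImplicit false
set_option linter.style.haveILetI false

universe u

namespace Cfsg.Lib.RankTwoCenter

open Cfsg Cfsg.FusionSystem Cfsg.Lib.Fusion
open scoped commutatorElement

variable {Ω : Type u} [Group Ω] {S : Subgroup Ω} {F : FusionSystem S}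

theorem isNormal_center [Finite S] : F.IsNormal F.center := by
  refine isNormal_of_extendsWith isCentral_center.1 fun P f hf => ?_
  obtain ⟨k, hk, hkf, hkc⟩ := (isCentral_iff.mp isCentral_center).2 P f hf
  exact ⟨k, hk, hkf, (img_congr hkc).trans (img_id _)⟩

/-- A normal abelian subgroup of a simple system of two-rank two is trivial. -/
theorem eq_bot_of_normal_abelian [Finite S] (hS : IsPGroup 2 S) (hsim : F.IsSimple 2)
    (hr2 : Cfsg.PRankAtLeast 2 2 S) {T : Subgroup Ω} (hT : F.IsNormal T)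
    (hab : ∀ x ∈ T, ∀ y ∈ T, x * y = y * x) : T = ⊥ := by
  haveI : Fact (Nat.Prime 2) := ⟨Nat.prime_two⟩
  rcases hsim.2.2 T _ (inner_isNormalIn_of_abelian hS hsim.1 hT hab) with h | ⟨rfl, -⟩
  · exact h
  exfalso
  obtain ⟨hc, -⟩ := (isSimple_abelian_iff hS hsim.1 hab).mp hsim
  obtain ⟨A, -, -, hA⟩ := hr2
  have := hA.trans A.card_le_card_group
  omega

theorem center_eq_bot_of_simple [Finite S] (hS : IsPGroup 2 S) (hsim : F.IsSimple 2)
    (hr2 : Cfsg.PRankAtLeast 2 2 S) : F.center = ⊥ :=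
  eq_bot_of_normal_abelian hS hsim hr2 isNormal_center fun x hx y hy =>
    comm_of_center hy x (mem_S_of_center hx)

/-- The Sylow group of a simple system of two-rank two. -/
theorem simple_shape [Finite S] (hS : IsPGroup 2 S) (hsim : F.IsSimple 2)
    (hr2 : Cfsg.PRankAtLeast 2 2 S) (hr : ¬ Cfsg.PRankAtLeast 2 3 S) :
    (∃ m, 4 ≤ m ∧ Nonempty (S ≃* DihedralGroup m)) ∨ Cfsg.IsQuasiDihedral S ∨ Cfsg.IsWreathed S := by
  haveI : Fact (Nat.Prime 2) := ⟨Nat.prime_two⟩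
  have hne : S ≠ ⊥ := hsim.2.1
  rcases shape hS hsim.1 hr2 hr (center_eq_bot_of_simple hS hsim hr2) with h | h | h | ⟨h2, h1, φ, ht⟩
  · exact Or.inl h
  · exact Or.inr (Or.inl h)
  · exact Or.inr (Or.inr h)
  exfalso
  let W : Subgroup Ω :=
    { carrier := {s | s ∈ S ∧ s * s = 1}
      one_mem' := ⟨S.one_mem, one_mul 1⟩
      mul_mem' := fun {x y} hx hy => ⟨S.mul_mem hx.1 hy.1, by
        have h : x * y = y * x :=
          congrArg Subtype.val (central_of_transitive hS φ ht (s := ⟨y, hy.1⟩) (Subtype.ext hy.2) ⟨x, hx.1⟩)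
        calc x * y * (x * y) = x * (y * x) * y := by group
          _ = x * (x * y) * y := by rw [h]
          _ = x * x * (y * y) := by group
          _ = 1 := by rw [hx.2, hy.2, one_mul]⟩
      inv_mem' := fun {x} hx => ⟨S.inv_mem hx.1, by rw [← mul_inv_rev, hx.2, inv_one]⟩ }
  have hab : ∀ x ∈ W, ∀ y ∈ W, x * y = y * x := fun x hx y hy =>
    congrArg Subtype.val (central_of_transitive hS φ ht (s := ⟨y, hy.1⟩) (Subtype.ext hy.2) ⟨x, hx.1⟩)
  have hsc : F.StronglyClosed W := stronglyClosed_of_apply (fun s hs => hs.1) fun P f hf x hx hxW =>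
    ⟨hf.mem_S hx, by rw [← hf.map_mul hx hx, hxW.2, hf.map_one]⟩
  have hN : F.IsNormal W := isNormal_of_chain hS hsim.1 hsc 1 (fun i => if i = 0 then ⊥ else W) rfl
    (by simp) (fun i hi => by obtain rfl : i = 0 := (by omega); simpa using hsc)
    (fun i hi => by
      obtain rfl : i = 0 := (by omega)
      simp only [zero_add, one_ne_zero, ↓reduceIte]
      exact Subgroup.commutator_le.mpr fun a ha b hb => by
        rw [Subgroup.mem_bot, commutatorElement_eq_one_iff_mul_comm]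
        exact hab a ha b hb)
  haveI := Subgroup.nontrivial_iff_ne_bot S |>.mpr hne
  obtain ⟨⟨z, hzS⟩, hz, -⟩ := exists_central_involution hS
  obtain ⟨hz2, hz1⟩ := orderOf_two.mp hz
  have hzW : z ∈ W := ⟨hzS, congrArg Subtype.val hz2⟩
  rw [eq_bot_of_normal_abelian hS hsim hr2 hN hab, Subgroup.mem_bot] at hzW
  exact hz1 (Subtype.ext hzW)

/-- A simple system with trivial centre has no nontrivial stable homomorphism. -/
theorem stable_eq_one [Finite S] (hS : IsPGroup 2 S) (hsim : F.IsSimple 2)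
    (hreal : F.IsRealizable 2) (hZ : F.center = ⊥) {A : Type*} [CommGroup A] (χ : S →* A)
    (hχ : ∀ (P : Subgroup Ω) (f : Ω → Ω) (hf : IsMap F P f) (x : Ω) (hx : x ∈ P),
      χ ⟨f x, hf.mem_S hx⟩ = χ ⟨x, hf.le hx⟩) (s : S) : χ s = 1 := by
  haveI : Fact (Nat.Prime 2) := ⟨Nat.prime_two⟩
  obtain ⟨G, iG, iF, ι, hι, T, hT⟩ := hreal
  set N := Cfsg.pResidual 2 G with hN
  haveI : N.Normal := Cfsg.Lib.Transfer.pResidual_normal'
  obtain ⟨θ, hθ, hq⟩ := exists_isQuot_of_realized hι hT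
  rcases normal_trivial_of_simple hθ hq T.isPGroup' hsim (isNormalIn_normalSubgroup T N) with
    h | ⟨h, -⟩
  · exfalso
    have hinner : ∀ (P : Subgroup Ω) (f : Ω → Ω), IsMap F P f →
        ∃ s ∈ S, ∀ x ∈ P, f x = s * x * s⁻¹ := by
      intro P f hf
      obtain ⟨g, hg⟩ := exists_elt_of_isMap hι hf
      obtain ⟨t, ht, m, hm, rfl⟩ := Subgroup.mem_sup_of_normal_right.mp
        (show g ∈ (T : Subgroup G) ⊔ N by
          rw [NormCent.eq_top_of_coprime_mem ((T : Subgroup G) ⊔ N) T le_sup_left fun y hy =>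
            Subgroup.mem_sup_right (Subgroup.subset_closure hy)]
          exact Subgroup.mem_top _)
      rw [hT] at ht
      obtain ⟨s, rfl⟩ := ht
      refine ⟨s, s.2, fun x hx => ?_⟩
      set xS : S := ⟨x, hf.le hx⟩
      set fS : S := ⟨f x, hf.mem_S hx⟩
      have he : ι fS = ι s * m * ι xS * (ι s * m)⁻¹ := hg xS hx fS rfl
      have h1 : ι (s⁻¹ * fS * s * xS⁻¹) ∈ ((T : Subgroup G) ⊓ N : Subgroup G) := by
        refine ⟨hT.ge ⟨_, rfl⟩, ?_⟩
        rw [map_mul, map_mul, map_mul, map_inv, map_inv, he,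
          show (ι s)⁻¹ * (ι s * m * ι xS * (ι s * m)⁻¹) * ι s * (ι xS)⁻¹ =
            m * (ι xS * m⁻¹ * (ι xS)⁻¹) by group]
        exact N.mul_mem hm ((inferInstance : N.Normal).conj_mem _ (N.inv_mem hm) _)
      rw [h, Subgroup.mem_bot, map_eq_one_iff ι hι.1, mul_inv_eq_one] at h1
      have h2 := congrArg Subtype.val h1
      simp only [Subgroup.coe_mul, InvMemClass.coe_inv] at h2
      show f x = (s : Ω) * x * (s : Ω)⁻¹
      have h3 : (s : Ω)⁻¹ * f x * (s : Ω) = x := h2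
      calc f x = (s : Ω) * ((s : Ω)⁻¹ * f x * (s : Ω)) * (s : Ω)⁻¹ := by group
        _ = _ := by rw [h3]
    haveI := Subgroup.nontrivial_iff_ne_bot S |>.mpr hsim.2.1
    obtain ⟨⟨z, hzS⟩, hz, hzc⟩ := exists_central_involution hS
    have hzc' : ∀ s ∈ S, s * z = z * s := fun s hs => congrArg Subtype.val (hzc ⟨s, hs⟩)
    have hmem : z ∈ F.center := mem_center_of_fixesElt hzS fun P f hf => by
      obtain ⟨s, hs, he⟩ := hinner P f hf
      exact ⟨fun x => s * x * s⁻¹, isMap_conj (sup_le hf.le (Subgroup.zpowers_le.mpr hzS)) hs,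
        fun x hx => (he x hx).symm, by
          show s * z * s⁻¹ = z
          rw [hzc' s hs, mul_inv_cancel_right]⟩
    rw [hZ, Subgroup.mem_bot] at hmem
    exact (orderOf_two.mp hz).2 (Subtype.ext hmem)
  let e := MonoidHom.ofInjective hι.1
  let τ : (T : Subgroup G) →* A :=
    χ.comp (e.symm.toMonoidHom.comp (Subgroup.inclusion hT.le))
  have hτι : ∀ (y : S) (hy : ι y ∈ (T : Subgroup G)), τ ⟨ι y, hy⟩ = χ y := fun y hy => by
    show χ (e.symm ⟨ι y, _⟩) = χ y
    rw [show (⟨ι y, _⟩ : ι.range) = e y from rfl, e.symm_apply_apply]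
  have hker : (groupFusionSystem (T : Subgroup G)).focalSubgroup ≤ τ.ker.map (T : Subgroup G).subtype := by
    refine focalSubgroup_le_ker fun P f hf x hx => ?_
    obtain ⟨hP, -, g, hg⟩ := isMap_group_iff.mp hf
    obtain ⟨xS, rfl⟩ := hT.le (hP hx)
    obtain ⟨yS, hy⟩ := hT.le (hf.mem_S hx)
    have hconj : g * ι xS * g⁻¹ = ι yS := by rw [← hg _ hx, hy]
    obtain ⟨k, hk, -, hke⟩ := exists_isMap_of_elt hι (Subgroup.zpowers_le.mpr xS.2) g (fun w hw => by
      obtain ⟨i, hi⟩ := hw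
      obtain rfl : w = xS ^ i := Subtype.ext (by rw [SubgroupClass.coe_zpow]; exact hi.symm)
      rw [map_zpow, ← conj_zpow, hconj, ← map_zpow]
      exact ⟨_, rfl⟩)
    have h1 := (hke xS (Subgroup.mem_zpowers _) yS).mpr hconj.symm
    have h2 := hχ _ k hk xS (Subgroup.mem_zpowers _)
    rw [hτι]
    rw [show (⟨f (ι xS), hf.mem_S hx⟩ : (T : Subgroup G)) = ⟨ι yS, hT.ge ⟨_, rfl⟩⟩ from Subtype.ext hy.symm,
      hτι]
    rw [← h2]
    exact congrArg χ (Subtype.ext h1)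
  have hle : (T : Subgroup G) ≤ τ.ker.map (T : Subgroup G).subtype := by
    refine le_trans ?_ ((hyperfocalSubgroup_le_focalSubgroup _ 2).trans hker)
    rw [Cfsg.Agent.S5093.result 2 T]
    exact h.ge
  obtain ⟨w, hw, hwe⟩ := hle (hT.ge ⟨s, rfl⟩ : ι s ∈ (T : Subgroup G))
  rw [← hτι s (hT.ge ⟨s, rfl⟩)]
  rw [← show w = ⟨ι s, hT.ge ⟨s, rfl⟩⟩ from Subtype.ext hwe]
  exact hw

/-- Homomorphisms killing every site are stable. -/
theorem stable_of_sites [Finite S] (hS : IsPGroup 2 S) (hF : F.IsSaturated 2) {A : Type*} [CommGroup A]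
    (χ : S →* A) (h : ∀ Q : Subgroup Ω, Q ≤ S → centralizerIn S Q ≤ Q →
      ¬ IsPGroup 2 (F.autGroup Q) → ∀ x : S, (x : Ω) ∈ Q → χ x = 1)
    (P : Subgroup Ω) (f : Ω → Ω) (hf : IsMap F P f) (x : Ω) (hx : x ∈ P) :
    χ ⟨f x, hf.mem_S hx⟩ = χ ⟨x, hf.le hx⟩ := by
  haveI : Fact (Nat.Prime 2) := ⟨Nat.prime_two⟩
  let E : FusionSystem S :=
    { Hom := fun P => {φ | ∃ hφ : φ ∈ F.Hom P, ∀ x : P,
        χ ⟨φ x, (F.le_of_mem hφ).2 x⟩ = χ ⟨x, (F.le_of_mem hφ).1 x.2⟩}
      le_of_mem := fun hφ => F.le_of_mem hφ.1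
      injective_of_mem := fun hφ => F.injective_of_mem hφ.1
      conj_mem := fun {P g} hP hg => ⟨F.conj_mem hP hg, fun x => by
        rw [show (⟨conjHom P g x, (F.le_of_mem (F.conj_mem hP hg)).2 x⟩ : S) =
          ⟨g, hg⟩ * ⟨x, hP x.2⟩ * ⟨g, hg⟩⁻¹ from rfl, map_mul, map_mul, map_inv,
          mul_inv_cancel_comm]⟩
      comp_mem := fun {P Q φ ψ} hφ hψ hmem => ⟨F.comp_mem hφ.1 hψ.1 hmem, fun x =>
        (hψ.2 (φ.codRestrict Q hmem x)).trans (hφ.2 x)⟩
      inv_mem := fun {P φ} hφ => by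
        obtain ⟨ψ, hψ, hinv⟩ := F.inv_mem hφ.1
        refine ⟨ψ, ⟨hψ, ?_⟩, hinv⟩
        rintro ⟨_, y, rfl⟩
        refine Eq.trans ?_ (hφ.2 y).symm
        exact congrArg χ (Subtype.ext (hinv y)) }
  have hE : IsMap E P f := isMap_of_autGroup_le hS hF (fun Q hQ hC hA α hα => by
    rw [mem_autGroup hQ] at hα ⊢
    exact ⟨hα, fun y => by rw [h Q hQ hC hA _ (α y).2, h Q hQ hC hA _ y.2]⟩) hf
  obtain ⟨φ, ⟨hφ, hχ⟩, he⟩ := hE
  refine Eq.trans ?_ (hχ ⟨x, hx⟩)
  exact congrArg χ (Subtype.ext (he ⟨x, hx⟩).symm)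

/-- The sign of an index-two subgroup. -/
noncomputable def indexTwoHom {G : Type*} [Group G] (T : Subgroup G) (h : T.index = 2) :
    G →* Multiplicative (ZMod 2) := by
  classical
  refine MonoidHom.mk' (fun x => Multiplicative.ofAdd (if x ∈ T then 0 else 1)) fun x y => ?_
  rw [← ofAdd_add]
  congr 1
  have := Subgroup.mul_mem_iff_of_index_two h (a := x) (b := y)
  by_cases hx : x ∈ T <;> by_cases hy : y ∈ T <;> simp only [hx, hy, iff_self, iff_true, iff_false,
    not_true_eq_false] at this <;> simp [hx, hy, this]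
  decide

theorem indexTwoHom_eq_one {G : Type*} [Group G] (T : Subgroup G) (h : T.index = 2) (x : G) :
    indexTwoHom T h x = 1 ↔ x ∈ T := by
  classical
  show Multiplicative.ofAdd (if x ∈ T then (0 : ZMod 2) else 1) = 1 ↔ _
  by_cases hx : x ∈ T <;> simp [hx]

/-- Some site of a simple system leaves a given index-two subgroup. -/
theorem exists_site_not_le [Finite S] (hS : IsPGroup 2 S) (hsim : F.IsSimple 2)
    (hreal : F.IsRealizable 2) (hZ : F.center = ⊥) (T : Subgroup S) (hT : T.index = 2) :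
    ∃ Q : Subgroup Ω, Q ≤ S ∧ centralizerIn S Q ≤ Q ∧ ¬ IsPGroup 2 (F.autGroup Q) ∧
      ∃ x : S, (x : Ω) ∈ Q ∧ x ∉ T := by
  by_contra hno
  push Not at hno
  refine absurd (?_ : T = ⊤) fun e => ?_
  · rw [eq_top_iff]
    intro s _
    exact (indexTwoHom_eq_one T hT s).mp (stable_eq_one hS hsim hreal hZ _
      (stable_of_sites hS hsim.1 _ fun Q hQ hC hA x hx =>
        (indexTwoHom_eq_one T hT x).mpr (hno Q hQ hC hA x hx)) s)
  · rw [e, Subgroup.index_top] at hT
    norm_num at hT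

end Cfsg.Lib.RankTwoCenter
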